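import Groth.Agent.H17.KE.MulHead
import Groth.Agent.S3406

/-!
# Polynomial bounds for the lengths of the Koszul homology of powers `x₁ⁿ, …, x_kⁿ`
-/

set_option autoImplicit false

universe u
open CategoryTheory CochainComplex HomologicalComplex
open Groth.Agent.H17.HS Groth.Agent.H59.Kosz
open scoped Pointwise

namespace Groth.Agent.H17.KE

section general

variable {A : Type u} [CommRing A]

/-- Lengths along an exact sequence `M₁ → M₂ → M₃`. -/
theorem length_le_of_exact {M₁ M₂ M₃ : Type*} [AddCommGroup M₁] [Module A M₁] [AddCommGroup M₂]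
    [Module A M₂] [AddCommGroup M₃] [Module A M₃] (f : M₁ →ₗ[A] M₂) (g : M₂ →ₗ[A] M₃)
    (h : Function.Exact f g) :
    Module.length A M₂ ≤ Module.length A M₁ + Module.length A M₃ := by
  rw [Groth.Agent.H17.Chi.length_eq_ker_add_range g, LinearMap.exact_iff.mp h]
  exact add_le_add (Module.length_le_of_surjective f.rangeRestrict f.surjective_rangeRestrict)
    (Module.length_le_of_injective (LinearMap.range g).subtype (Submodule.subtype_injective _))

/-- `ℓ(N/xyN) ≤ ℓ(N/yN) + ℓ(N/xN)`. -/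
theorem length_quot_mul_le (N : Type*) [AddCommGroup N] [Module A N] (x y : A) :
    Module.length A (N ⧸ (x * y) • (⊤ : Submodule A N)) ≤
      Module.length A (N ⧸ y • (⊤ : Submodule A N)) +
        Module.length A (N ⧸ x • (⊤ : Submodule A N)) := by
  have he : y • (⊤ : Submodule A N) ≤
      ((x * y) • (⊤ : Submodule A N)).comap (LinearMap.lsmul A N x) := by
    intro n hn
    obtain ⟨n', -, rfl⟩ := (Submodule.mem_smul_pointwise_iff_exists _ _ _).mp hn
    rw [Submodule.mem_comap, LinearMap.lsmul_apply, ← mul_smul]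
    exact Submodule.smul_mem_pointwise_smul _ _ _ Submodule.mem_top
  have hf : (x * y) • (⊤ : Submodule A N) ≤ x • (⊤ : Submodule A N) := by
    intro n hn
    obtain ⟨n', -, rfl⟩ := (Submodule.mem_smul_pointwise_iff_exists _ _ _).mp hn
    rw [mul_smul]
    exact Submodule.smul_mem_pointwise_smul _ _ _ Submodule.mem_top
  have hmkx : ∀ n : N, (Submodule.Quotient.mk n : N ⧸ x • (⊤ : Submodule A N)) = 0 ↔
      ∃ m, x • m = n := fun n => by
    rw [Submodule.Quotient.mk_eq_zero, Submodule.mem_smul_pointwise_iff_exists]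
    exact ⟨fun ⟨m, _, h⟩ => ⟨m, h⟩, fun ⟨m, h⟩ => ⟨m, Submodule.mem_top, h⟩⟩
  have hmkxy : ∀ n : N, (Submodule.Quotient.mk n : N ⧸ (x * y) • (⊤ : Submodule A N)) = 0 ↔
      ∃ m, x • y • m = n := fun n => by
    rw [Submodule.Quotient.mk_eq_zero, Submodule.mem_smul_pointwise_iff_exists]
    exact ⟨fun ⟨m, _, h⟩ => ⟨m, by rw [← mul_smul]; exact h⟩,
      fun ⟨m, h⟩ => ⟨m, Submodule.mem_top, by rw [mul_smul]; exact h⟩⟩
  refine length_le_of_exact (Submodule.mapQ _ _ (LinearMap.lsmul A N x) he)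
    (Submodule.factor hf) ?_
  intro g
  obtain ⟨n, rfl⟩ := Submodule.Quotient.mk_surjective _ g
  constructor
  · intro hn
    have hn' : (Submodule.Quotient.mk n : N ⧸ x • (⊤ : Submodule A N)) = 0 := hn
    obtain ⟨m, hm⟩ := (hmkx _).mp hn'
    refine ⟨Submodule.Quotient.mk m, ?_⟩
    show (Submodule.Quotient.mk (x • m) : N ⧸ (x * y) • (⊤ : Submodule A N)) =
      Submodule.Quotient.mk n
    rw [hm]
  · rintro ⟨g', hg'⟩
    obtain ⟨m, rfl⟩ := Submodule.Quotient.mk_surjective _ g'
    have h1 : (Submodule.Quotient.mk (x • m) : N ⧸ (x * y) • (⊤ : Submodule A N)) =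
        Submodule.Quotient.mk n := hg'
    show (Submodule.Quotient.mk n : N ⧸ x • (⊤ : Submodule A N)) = 0
    have h2 : (Submodule.Quotient.mk (x • m - n) : N ⧸ (x * y) • (⊤ : Submodule A N)) = 0 := by
      rw [Submodule.Quotient.mk_sub, h1, sub_self]
    obtain ⟨m', hm'⟩ := (hmkxy _).mp h2
    refine (hmkx _).mpr ⟨m - y • m', ?_⟩
    rw [smul_sub, hm']
    abel

theorem Qz_mul_le (K : Cx A) (x y : A) (n : ℤ) : Qz K (x * y) n ≤ Qz K y n + Qz K x n :=
  length_quot_mul_le _ x y

theorem Qz_le (K : Cx A) (z : A) (n : ℤ) : Qz K z n ≤ Module.length A (K.homology n) := by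
  rw [length_homology_eq K (n - 1) n (n + 1) (by omega) rfl]
  unfold Qz
  exact Module.length_le_of_surjective (Submodule.mkQ _) (Submodule.mkQ_surjective _)

theorem Tz_le (K : Cx A) (z : A) (n : ℤ) : Tz K z n ≤ Module.length A (K.homology n) := by
  rw [length_homology_eq K (n - 1) n (n + 1) (by omega) rfl]
  unfold Tz
  exact Module.length_le_of_injective (Submodule.subtype _) (Submodule.subtype_injective _)

theorem length_cone_mul_le (K : Cx A) (x y : A) (n : ℤ) :
    Module.length A ((mappingCone ((x * y) • 𝟙 K)).homology n) ≤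
      Module.length A ((mappingCone (y • 𝟙 K)).homology n) +
        Module.length A ((mappingCone (x • 𝟙 K)).homology n) := by
  rw [length_homology_cone' K (x * y) n (n + 1) rfl, length_homology_cone' K y n (n + 1) rfl,
    length_homology_cone' K x n (n + 1) rfl, add_add_add_comm]
  exact add_le_add (Qz_mul_le K x y n) (Tz_mul_le K x y (n + 1))

theorem length_cone_pow_le (K : Cx A) (z : A) (j : ℤ) (m : ℕ) :
    Module.length A ((mappingCone ((z ^ (m + 1)) • 𝟙 K)).homology j) ≤
      ((m : ℕ∞) + 1) * Module.length A ((mappingCone (z • 𝟙 K)).homology j) := by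
  induction m with
  | zero => rw [zero_add, pow_one, Nat.cast_zero, zero_add, one_mul]
  | succ m ih =>
    rw [pow_succ]
    refine (length_cone_mul_le K (z ^ (m + 1)) z j).trans ?_
    have e : (((m + 1 : ℕ) : ℕ∞) + 1) * Module.length A ((mappingCone (z • 𝟙 K)).homology j) =
        ((m : ℕ∞) + 1) * Module.length A ((mappingCone (z • 𝟙 K)).homology j) +
          Module.length A ((mappingCone (z • 𝟙 K)).homology j) := by
      rw [Nat.cast_add_one, add_mul _ 1, one_mul]
    rw [e]
    exact (add_comm _ _).le.trans (add_le_add ih le_rfl)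

theorem length_homology_eq_zero (K : Cx A) (n : ℤ) [Subsingleton (K.X n)] :
    Module.length A (K.homology n) = 0 := by
  rw [length_homology_eq K (n - 1) n (n + 1) (by omega) rfl]
  exact length_Hm_eq_zero _ _ _

/-- The length of the `n`-th cohomology of the Koszul complex `K(l; M)` (mapping cone model). -/
noncomputable def hl (l : List A) (M : Type u) [AddCommGroup M] [Module A M] (n : ℤ) : ℕ∞ :=
  Module.length A ((kz (sgl (ModuleCat.of A M)) l).homology n)

theorem hl_eq_zero (l : List A) (M : Type u) [AddCommGroup M] [Module A M] (n : ℤ)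
    (hn : n < -(l.length : ℤ) ∨ 0 < n) : hl l M n = 0 := by
  haveI : Subsingleton ((kz (sgl (ModuleCat.of A M)) l).X n) := by
    rcases hn with hn | hn
    · exact ModuleCat.subsingleton_of_isZero (isZero_kz_neg _ l n hn)
    · exact ModuleCat.subsingleton_of_isZero (isZero_kz_pos _ l n hn)
  exact length_homology_eq_zero _ n

theorem hl_nil_le (M : Type u) [AddCommGroup M] [Module A M] (n : ℤ) :
    hl ([] : List A) M n ≤ Module.length A M := by
  show Module.length A ((sgl (ModuleCat.of A M)).homology n) ≤ _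
  by_cases hn : n = 0
  · subst hn
    exact le_of_eq (HomologicalComplex.singleObjHomologySelfIso (ComplexShape.up ℤ) 0
      (ModuleCat.of A M)).toLinearEquiv.length_eq
  · have hz : Limits.IsZero ((sgl (ModuleCat.of A M)).homology n) :=
      (HomologicalComplex.exactAt_single_obj (ComplexShape.up ℤ) 0
        (ModuleCat.of A M) n hn).isZero_homology
    haveI := ModuleCat.subsingleton_of_isZero hz
    have h0 : Module.length A ((sgl (ModuleCat.of A M)).homology n) = 0 := Module.length_eq_zero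
    rw [h0]
    exact zero_le

theorem hl_cons_le (w : A) (L : List A) (N : Type u) [AddCommGroup N] [Module A N] (j : ℤ) :
    hl (w :: L) N j ≤ hl L N j + hl L N (j + 1) := by
  show Module.length A ((mappingCone (w • 𝟙 (kz (sgl (ModuleCat.of A N)) L))).homology j) ≤ _
  rw [length_homology_cone' _ w j (j + 1) rfl]
  exact add_le_add (Qz_le _ w j) (Tz_le _ w (j + 1))

theorem hl_of_subsingleton (M : Type u) [AddCommGroup M] [Module A M] [Subsingleton M]
    (l : List A) : ∀ n : ℤ, hl l M n = 0 := by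
  induction l with
  | nil =>
    intro n
    exact nonpos_iff_eq_zero.mp ((hl_nil_le M n).trans (le_of_eq Module.length_eq_zero))
  | cons w L ih =>
    intro n
    refine nonpos_iff_eq_zero.mp ((hl_cons_le w L M n).trans ?_)
    rw [ih n, ih (n + 1), add_zero]

theorem hl_pow_cons_le (z : A) (L : List A) (N : Type u) [AddCommGroup N] [Module A N] (j : ℤ)
    (n : ℕ) (hn : 0 < n) : hl (z ^ n :: L) N j ≤ (n : ℕ∞) * hl (z :: L) N j := by
  obtain ⟨m, rfl⟩ := Nat.exists_eq_add_one_of_ne_zero hn.ne'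
  have h := length_cone_pow_le (kz (sgl (ModuleCat.of A N)) L) z j m
  rw [Nat.cast_add_one]
  exact h

theorem hl_le_of_exact (L : List A) {M₁ M₂ M₃ : Type u} [AddCommGroup M₁] [Module A M₁]
    [AddCommGroup M₂] [Module A M₂] [AddCommGroup M₃] [Module A M₃] (f : M₁ →ₗ[A] M₂)
    (g : M₂ →ₗ[A] M₃) (hf : Function.Injective f) (hg : Function.Surjective g)
    (hfg : Function.Exact f g) (j : ℤ) : hl L M₂ j ≤ hl L M₁ j + hl L M₃ j := by
  let S : ShortComplex (ModuleCat.{u} A) :=
    ShortComplex.mk (ModuleCat.ofHom f) (ModuleCat.ofHom g) (by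
      ext x
      exact hfg.apply_apply_eq_zero x)
  have hS : S.ShortExact := ModuleCat.shortComplex_shortExact S hfg hf hg
  have hT : (S.map (HomologicalComplex.single (ModuleCat.{u} A)
      (ComplexShape.up ℤ) 0)).ShortExact := hS.map_of_exact _
  have h1 := kzSC_shortExact _ hT L
  have h2 := h1.homology_exact₂ j
  have h3 := (ShortComplex.ShortExact.moduleCat_exact_iff_function_exact _).mp h2
  have h4 := length_le_of_exact _ _ h3
  exact h4

theorem hl_cons_of_regular (z : A) (L : List A) (M : Type u) [AddCommGroup M] [Module A M]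
    (hz : IsSMulRegular M z) (j : ℤ) : hl (z :: L) M j = hl L (QuotSMulTop z M) j := by
  have hS := regSC_shortExact M z hz L
  have hq := mappingCone.quasiIso_descShortComplex hS
  let d : kz (sgl (ModuleCat.of A M)) (z :: L) ⟶ kz (sgl (ModuleCat.of A (QuotSMulTop z M))) L :=
    mappingCone.descShortComplex (regSC M z L)
  have hd : QuasiIso d := hq
  exact (_root_.isoOfQuasiIsoAt d j).toLinearEquiv.length_eq

theorem hl_pow_cons_step (z : A) (M : Type u) [AddCommGroup M] [Module A M] (Γ : Submodule A M)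
    (hreg : IsSMulRegular (M ⧸ Γ) z) (L : List A) (j : ℤ) (n : ℕ) (hn : 0 < n) :
    hl (z ^ n :: L) M j ≤
      (hl L Γ j + hl L Γ (j + 1)) + (n : ℕ∞) * hl L (QuotSMulTop z (M ⧸ Γ)) j := by
  have h1 := hl_le_of_exact (z ^ n :: L) Γ.subtype Γ.mkQ (Submodule.subtype_injective _)
    (Submodule.mkQ_surjective _) (LinearMap.exact_subtype_mkQ Γ) j
  have h2 := hl_cons_le (z ^ n) L Γ j
  have h3 := hl_pow_cons_le z L (M ⧸ Γ) j n hn
  rw [hl_cons_of_regular z L (M ⧸ Γ) hreg j] at h3
  exact h1.trans (add_le_add h2 h3)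

/-- The `z`-power torsion `Γ` of a Noetherian module, with `z` regular on `M/Γ`. -/
theorem exists_torsion_split (z : A) (M : Type*) [AddCommGroup M] [Module A M]
    [IsNoetherian A M] :
    ∃ (Γ : Submodule A M) (s : ℕ), (∀ g ∈ Γ, z ^ s • g = 0) ∧ IsSMulRegular (M ⧸ Γ) z := by
  let f : ℕ →o Submodule A M :=
    ⟨fun s => LinearMap.ker (LinearMap.lsmul A M (z ^ s)), by
      intro s t hst m hm
      have hm' : z ^ s • m = 0 := hm
      show z ^ t • m = 0
      obtain ⟨r, rfl⟩ := Nat.exists_eq_add_of_le hst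
      rw [pow_add, mul_comm, mul_smul, hm', smul_zero]⟩
  obtain ⟨s, hs⟩ := monotone_stabilizes_iff_noetherian.mpr (inferInstance : IsNoetherian A M) f
  have hmem : ∀ (t : ℕ) (m : M), m ∈ f t ↔ z ^ t • m = 0 := fun t m => Iff.rfl
  refine ⟨f s, s, fun g hg => (hmem s g).mp hg, ?_⟩
  refine IsSMulRegular.of_right_eq_zero_of_smul (fun q hq => ?_)
  obtain ⟨m, rfl⟩ := Submodule.Quotient.mk_surjective _ q
  rw [← Submodule.Quotient.mk_smul, Submodule.Quotient.mk_eq_zero] at hq
  rw [Submodule.Quotient.mk_eq_zero, hs (s + 1) (Nat.le_succ s)]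
  rw [hmem] at hq ⊢
  rw [pow_succ, mul_smul]
  exact hq

end general

section supp

variable {A : Type u} [CommRing A]

/-- Every prime of `Supp N` containing `l` is maximal (i.e. `N/(l)N` has finite length when `N`
is finite over a Noetherian ring). -/
def SuppCond (l : List A) (N : Type u) [AddCommGroup N] [Module A N] : Prop :=
  ∀ p : PrimeSpectrum A, p ∈ Module.support A N → (∀ a ∈ l, a ∈ p.asIdeal) →
    p.asIdeal.IsMaximal

theorem isFiniteLength_of_suppCond_nil [IsNoetherianRing A] (N : Type u) [AddCommGroup N]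
    [Module A N] [Module.Finite A N] (h : SuppCond ([] : List A) N) : IsFiniteLength A N := by
  rw [Groth.Agent.S3406.isFiniteLength_iff_supportDim_le_zero]
  exact Groth.Agent.S3406.krullDim_le_zero_of_forall_isMaximal
    (fun P hP => h P hP (fun a ha => (List.not_mem_nil ha).elim))

theorem isMaximal_of_mem_support_of_isFiniteLength [IsNoetherianRing A] (N : Type u)
    [AddCommGroup N] [Module A N] [Module.Finite A N] (h : IsFiniteLength A N)
    (p : PrimeSpectrum A) (hp : p ∈ Module.support A N) : p.asIdeal.IsMaximal := by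
  rw [Groth.Agent.S3406.isFiniteLength_iff_supportDim_le_zero] at h
  have h' : Order.krullDim (Module.support A N) ≤ 0 := h
  rw [Order.krullDim_nonpos_iff_forall_isMax] at h'
  obtain ⟨m, hm, hpm⟩ := Ideal.exists_le_maximal p.asIdeal p.2.ne_top
  let q : PrimeSpectrum A := ⟨m, hm.isPrime⟩
  have hpq : p ≤ q := hpm
  have hq : q ∈ Module.support A N := Module.mem_support_mono hpq hp
  have hmax := h' ⟨p, hp⟩
  have hle : (⟨q, hq⟩ : Module.support A N) ≤ ⟨p, hp⟩ :=
    hmax (show (⟨p, hp⟩ : Module.support A N) ≤ ⟨q, hq⟩ from hpq)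
  have hle' : m ≤ p.asIdeal := hle
  have heq : p.asIdeal = m := le_antisymm hpm hle'
  rw [heq]
  exact hm

theorem suppCond_of_isFiniteLength [IsNoetherianRing A] (l : List A) (M : Type u)
    [AddCommGroup M] [Module A M] [Module.Finite A M]
    (h : IsFiniteLength A (M ⧸ Ideal.span {a | a ∈ l} • (⊤ : Submodule A M))) :
    SuppCond l M := by
  intro p hp hl
  have hp' : p ∈ Module.support A (M ⧸ Ideal.span {a | a ∈ l} • (⊤ : Submodule A M)) := by
    rw [Module.support_quotient]
    refine ⟨hp, ?_⟩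
    rw [PrimeSpectrum.mem_zeroLocus]
    exact Ideal.span_le.mpr (fun a ha => hl a ha)
  exact isMaximal_of_mem_support_of_isFiniteLength _ h p hp'

theorem suppCond_sub (z : A) (l : List A) (M : Type u) [AddCommGroup M] [Module A M]
    (Γ : Submodule A M) (s : ℕ) (hΓ : ∀ g ∈ Γ, z ^ s • g = 0) (h : SuppCond (z :: l) M) :
    SuppCond l Γ := by
  intro p hp hl
  have hpM : p ∈ Module.support A M :=
    Module.support_subset_of_injective Γ.subtype (Submodule.subtype_injective _) hp
  refine h p hpM ?_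
  intro a ha
  rcases List.mem_cons.mp ha with rfl | ha
  · have hann : a ^ s ∈ Module.annihilator A Γ := by
      rw [Module.mem_annihilator]
      intro g
      exact Subtype.ext (hΓ g.1 g.2)
    exact p.2.mem_of_pow_mem s (Module.annihilator_le_of_mem_support hp hann)
  · exact hl a ha

theorem suppCond_quot (z : A) (l : List A) (M : Type u) [AddCommGroup M] [Module A M]
    [Module.Finite A M] (Γ : Submodule A M) (h : SuppCond (z :: l) M) :
    SuppCond l (QuotSMulTop z (M ⧸ Γ)) := by
  intro p hp hl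
  rw [Module.support_quotSMulTop] at hp
  obtain ⟨hp1, hp2⟩ := hp
  have hpM : p ∈ Module.support A M :=
    Module.support_subset_of_surjective Γ.mkQ (Submodule.mkQ_surjective _) hp1
  refine h p hpM ?_
  intro a ha
  rcases List.mem_cons.mp ha with rfl | ha
  · simpa using hp2
  · exact hl a ha

theorem eq_bot_of_add_one_le_zero (a : WithBot ℕ∞) (h : a + 1 ≤ ((0 : ℕ) : WithBot ℕ∞)) :
    a = ⊥ := by
  induction a using WithBot.recBotCoe with
  | bot => rfl
  | coe a =>
    exfalso
    have h' : ((a + 1 : ℕ∞) : WithBot ℕ∞) ≤ ((0 : ℕ∞) : WithBot ℕ∞) := by exact_mod_cast h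
    have h'' : a + 1 ≤ 0 := WithBot.coe_le_coe.mp h'
    simp at h''

end supp

section main

variable {A : Type u} [CommRing A] [IsNoetherianRing A]

/-- `ℓ(Hʲ(x₁ⁿ, …, x_kⁿ; M)) ≤ c · n^{k + j}`. -/
theorem hl_pow_le_poly (l : List A) :
    ∀ (M : Type u) [AddCommGroup M] [Module A M] [Module.Finite A M], SuppCond l M →
      ∀ j : ℤ, ∃ c : ℕ, ∀ n : ℕ, 0 < n →
        hl (l.map (· ^ n)) M j ≤ ((c * n ^ ((l.length : ℤ) + j).toNat : ℕ) : ℕ∞) := by
  induction l with
  | nil =>
    intro M _ _ _ hS j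
    have hfl := isFiniteLength_of_suppCond_nil M hS
    obtain ⟨c, hc⟩ := ENat.ne_top_iff_exists.mp (Module.length_ne_top_iff.mpr hfl)
    refine ⟨c, fun n hn => ?_⟩
    refine (hl_nil_le M j).trans ?_
    rw [← hc]
    exact_mod_cast Nat.le_mul_of_pos_right c (pow_pos hn _)
  | cons z l' ih =>
    intro M _ _ _ hS j
    obtain ⟨Γ, s, hΓ, hreg⟩ := exists_torsion_split z M
    have hS1 : SuppCond l' Γ := suppCond_sub z l' M Γ s hΓ hS
    have hS2 : SuppCond l' (QuotSMulTop z (M ⧸ Γ)) := suppCond_quot z l' M Γ hS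
    obtain ⟨c₁, h₁⟩ := ih Γ hS1 j
    obtain ⟨c₂, h₂⟩ := ih Γ hS1 (j + 1)
    obtain ⟨c₃, h₃⟩ := ih (QuotSMulTop z (M ⧸ Γ)) hS2 j
    refine ⟨c₁ + c₂ + c₃, fun n hn => ?_⟩
    have step := hl_pow_cons_step z M Γ hreg (l'.map (· ^ n)) j n hn
    have hlen : (l'.map (· ^ n)).length = l'.length := List.length_map _
    have hk : (z :: l').length = l'.length + 1 := List.length_cons
    have he1 : ((l'.length : ℤ) + j).toNat ≤ (((z :: l').length : ℤ) + j).toNat := by omega
    have he2 : ((l'.length : ℤ) + (j + 1)).toNat = (((z :: l').length : ℤ) + j).toNat := by omega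
    have hΓ1 : hl (l'.map (· ^ n)) Γ j ≤
        ((c₁ * n ^ (((z :: l').length : ℤ) + j).toNat : ℕ) : ℕ∞) :=
      (h₁ n hn).trans (by exact_mod_cast Nat.mul_le_mul_left c₁ (Nat.pow_le_pow_right hn he1))
    have hΓ2 : hl (l'.map (· ^ n)) Γ (j + 1) ≤
        ((c₂ * n ^ (((z :: l').length : ℤ) + j).toNat : ℕ) : ℕ∞) := by
      have h := h₂ n hn
      rwa [he2] at h
    have hN : (n : ℕ∞) * hl (l'.map (· ^ n)) (QuotSMulTop z (M ⧸ Γ)) j ≤
        ((c₃ * n ^ (((z :: l').length : ℤ) + j).toNat : ℕ) : ℕ∞) := by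
      by_cases hneg : (l'.length : ℤ) + j < 0
      · rw [hl_eq_zero _ _ j (Or.inl (by rw [hlen]; omega)), mul_zero]
        exact zero_le
      · have he3 : (((z :: l').length : ℤ) + j).toNat = ((l'.length : ℤ) + j).toNat + 1 := by
          omega
        rw [he3]
        refine (mul_le_mul' le_rfl (h₃ n hn)).trans (le_of_eq ?_)
        rw [pow_succ]
        push_cast
        ring
    show hl (z ^ n :: l'.map (· ^ n)) M j ≤ _
    refine step.trans ((add_le_add (add_le_add hΓ1 hΓ2) hN).trans (le_of_eq ?_))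
    push_cast
    ring

/-- `ℓ(Hʲ(x₁ⁿ, …, x_kⁿ; M)) ≤ c · n^{dim M}`. -/
theorem hl_pow_le_dim (l : List A) :
    ∀ (M : Type u) [AddCommGroup M] [Module A M] [Module.Finite A M], SuppCond l M →
      ∀ d : ℕ, Module.supportDim A M ≤ (d : WithBot ℕ∞) →
      ∀ j : ℤ, ∃ c : ℕ, ∀ n : ℕ, 0 < n →
        hl (l.map (· ^ n)) M j ≤ ((c * n ^ d : ℕ) : ℕ∞) := by
  induction l with
  | nil =>
    intro M _ _ _ hS d _ j
    have hfl := isFiniteLength_of_suppCond_nil M hS
    obtain ⟨c, hc⟩ := ENat.ne_top_iff_exists.mp (Module.length_ne_top_iff.mpr hfl)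
    refine ⟨c, fun n hn => ?_⟩
    refine (hl_nil_le M j).trans ?_
    rw [← hc]
    exact_mod_cast Nat.le_mul_of_pos_right c (pow_pos hn _)
  | cons z l' ih =>
    intro M _ _ _ hS d hd j
    obtain ⟨Γ, s, hΓ, hreg⟩ := exists_torsion_split z M
    have hS1 : SuppCond l' Γ := suppCond_sub z l' M Γ s hΓ hS
    have hS2 : SuppCond l' (QuotSMulTop z (M ⧸ Γ)) := suppCond_quot z l' M Γ hS
    have hdΓ : Module.supportDim A Γ ≤ (d : WithBot ℕ∞) :=
      (Module.supportDim_le_of_injective Γ.subtype (Submodule.subtype_injective _)).trans hd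
    have hdQ : Module.supportDim A (M ⧸ Γ) ≤ (d : WithBot ℕ∞) :=
      (Module.supportDim_le_of_surjective Γ.mkQ (Submodule.mkQ_surjective _)).trans hd
    obtain ⟨c₁, h₁⟩ := ih Γ hS1 d hdΓ j
    obtain ⟨c₂, h₂⟩ := ih Γ hS1 d hdΓ (j + 1)
    have hmin : ∀ p ∈ (Module.annihilator A (M ⧸ Γ)).minimalPrimes, z ∉ p :=
      fun p hp => hreg.notMem_of_mem_minimalPrimes hp
    obtain ⟨c₃, h₃⟩ : ∃ c₃ : ℕ, ∀ n : ℕ, 0 < n →
        (n : ℕ∞) * hl (l'.map (· ^ n)) (QuotSMulTop z (M ⧸ Γ)) j ≤ ((c₃ * n ^ d : ℕ) : ℕ∞) := by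
      cases d with
      | zero =>
        have h1 := (Module.supportDim_quotSMulTop_succ_le_of_notMem_minimalPrimes hmin).trans hdQ
        have h2 := eq_bot_of_add_one_le_zero _ h1
        haveI : Subsingleton (QuotSMulTop z (M ⧸ Γ)) :=
          (Module.supportDim_eq_bot_iff_subsingleton A _).mp h2
        refine ⟨0, fun n _ => ?_⟩
        rw [hl_of_subsingleton _ _ j, mul_zero]
        exact zero_le
      | succ d' =>
        have hdN : Module.supportDim A (QuotSMulTop z (M ⧸ Γ)) ≤ (d' : WithBot ℕ∞) :=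
          Groth.Agent.S3406.supportDim_quotSMulTop_le (fun p hp _ => hmin p hp) hdQ
        obtain ⟨c₃, h₃⟩ := ih (QuotSMulTop z (M ⧸ Γ)) hS2 d' hdN j
        refine ⟨c₃, fun n hn => ?_⟩
        refine (mul_le_mul' le_rfl (h₃ n hn)).trans (le_of_eq ?_)
        rw [pow_succ]
        push_cast
        ring
    refine ⟨c₁ + c₂ + c₃, fun n hn => ?_⟩
    have step := hl_pow_cons_step z M Γ hreg (l'.map (· ^ n)) j n hn
    show hl (z ^ n :: l'.map (· ^ n)) M j ≤ _
    refine step.trans ((add_le_add (add_le_add (h₁ n hn) (h₂ n hn)) (h₃ n hn)).trans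
      (le_of_eq ?_))
    push_cast
    ring

end main

end Groth.Agent.H17.KE
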