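import Groth.Agent.H17.KE.PowBound
import Groth.Agent.H82.TorLib
import Groth.Agent.H82.FinFreeRes
import Groth.Agent.S3311
import Groth.Prelude.Def_IntMult

/-!
# `Tor_i(A/(l), M)` is the Koszul homology `H^{-i}(K(l) ⊗ M)` for a regular sequence `l`
-/

set_option autoImplicit false
set_option linter.style.haveILetI false

universe u
open CategoryTheory CategoryTheory.Limits MonoidalCategory
open Groth.Agent.H17.HS Groth.Agent.H59.Kosz

namespace Groth.Agent.H17.KE

section general

variable {A : Type u} [CommRing A]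

/-- Tor computed by a cochain complex of projectives in degrees `≤ 0` resolving `Z`. -/
theorem nonempty_tor_succ_iso (Z : ModuleCat.{u} A) (E : CochainComplex (ModuleCat.{u} A) ℤ)
    (hE : ∀ i : ℤ, 0 < i → IsZero (E.X i)) (hp : ∀ i, Projective (E.X i))
    (hex : ∀ i : ℤ, i ≠ 0 → E.ExactAt i) (φ : E.homology 0 ≅ Z) (N : ModuleCat.{u} A) (m : ℕ) :
    Nonempty (((Tor (ModuleCat.{u} A) (m + 1)).obj Z).obj N ≅
      (((tensorRight N).mapHomologicalComplex (ComplexShape.up ℤ)).obj E).homology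
        (-((m + 1 : ℕ) : ℤ))) := by
  let X : ℕ → ModuleCat.{u} A := fun n => E.X (-(n : ℤ))
  let d : ∀ n, X (n + 1) ⟶ X n := fun n => E.d (-((n + 1 : ℕ) : ℤ)) (-(n : ℤ))
  have sq : ∀ n, d (n + 1) ≫ d n = 0 := fun n => E.d_comp_d _ _ _
  have hn : ∀ n, (ShortComplex.mk (d (n + 1)) (d n) (sq n)).Exact := by
    intro n
    have h := hex (-((n + 1 : ℕ) : ℤ)) (by push_cast; omega)
    rw [HomologicalComplex.exactAt_iff' _ (-((n + 1 + 1 : ℕ) : ℤ)) (-((n + 1 : ℕ) : ℤ))
      (-(n : ℤ))
      ((ComplexShape.up ℤ).prev_eq'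
        (show -((n + 1 + 1 : ℕ) : ℤ) + 1 = -((n + 1 : ℕ) : ℤ) by push_cast; ring))
      ((ComplexShape.up ℤ).next_eq'
        (show -((n + 1 : ℕ) : ℤ) + 1 = -((n : ℕ) : ℤ) by push_cast; ring))] at h
    exact h
  have hd01 : E.d 0 1 = 0 := (hE 1 (by omega)).eq_of_tgt _ _
  have hiso : IsIso (E.homologyι 0) := E.isIso_homologyι 0 1 (by simp) hd01
  let ψ : E.opcycles 0 ⟶ Z := inv (E.homologyι 0) ≫ φ.hom
  have hψ : IsIso ψ := by
    show IsIso (inv (E.homologyι 0) ≫ φ.hom)
    infer_instance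
  let ε : X 0 ⟶ Z := E.pOpcycles 0 ≫ ψ
  have h1 : E.d (-1) 0 ≫ E.pOpcycles 0 = 0 := E.d_pOpcycles (-1) 0
  have hε : d 0 ≫ ε = 0 := by
    show E.d (-1) 0 ≫ E.pOpcycles 0 ≫ ψ = 0
    rw [reassoc_of% h1, zero_comp]
  have hepi : Epi ε := by
    show Epi (E.pOpcycles 0 ≫ ψ)
    infer_instance
  let S0 : ShortComplex (ModuleCat.{u} A) := ShortComplex.mk (E.d (-1) 0) (E.pOpcycles 0) h1
  have hS0 : S0.Exact :=
    ShortComplex.exact_of_g_is_cokernel S0 (E.opcyclesIsCokernel (-1) 0 (by simp))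
  have h0 : (ShortComplex.mk (d 0) ε hε).Exact := by
    rw [ShortComplex.moduleCat_exact_iff]
    intro x hx
    rw [ShortComplex.moduleCat_exact_iff] at hS0
    apply hS0 x
    have hmono : Mono ψ := inferInstance
    rw [ModuleCat.mono_iff_injective] at hmono
    apply hmono
    rw [map_zero]
    exact hx
  let P : ProjectiveResolution Z :=
    Groth.Agent.H82.FinFreeRes.ofExact X d sq ε hε hepi h0 hn (fun n => hp _)
  obtain ⟨e1⟩ := Groth.Agent.H82.TorLib.nonempty_tor_iso_U P (m + 1) N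
  refine ⟨e1 ≪≫ ?_⟩
  show (((tensorRight N).mapHomologicalComplex (ComplexShape.down ℕ)).obj
    (ChainComplex.of X d sq)).homology (m + 1) ≅ _
  refine HomologicalComplex.homologyIsoSc' _ (m + 1 + 1) (m + 1) m (by simp) (by simp) ≪≫ ?_ ≪≫
    (HomologicalComplex.homologyIsoSc' _ (-((m + 1 + 1 : ℕ) : ℤ)) (-((m + 1 : ℕ) : ℤ))
      (-(m : ℤ))
      ((ComplexShape.up ℤ).prev_eq'
        (show -((m + 1 + 1 : ℕ) : ℤ) + 1 = -((m + 1 : ℕ) : ℤ) by push_cast; ring))
      ((ComplexShape.up ℤ).next_eq'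
        (show -((m + 1 : ℕ) : ℤ) + 1 = -((m : ℕ) : ℤ) by push_cast; ring))).symm
  have e : (((tensorRight N).mapHomologicalComplex (ComplexShape.down ℕ)).obj
      (ChainComplex.of X d sq)).sc' (m + 1 + 1) (m + 1) m ≅
      (((tensorRight N).mapHomologicalComplex (ComplexShape.up ℤ)).obj E).sc'
        (-((m + 1 + 1 : ℕ) : ℤ)) (-((m + 1 : ℕ) : ℤ)) (-(m : ℤ)) :=
    ShortComplex.isoMk (Iso.refl _) (Iso.refl _) (Iso.refl _)
      (by
        have h : (ChainComplex.of X d sq).d (m + 1 + 1) (m + 1) = d (m + 1) :=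
          ChainComplex.of_d X d (m + 1)
        refine (Category.id_comp _).trans (Eq.trans ?_ (Category.comp_id _).symm)
        exact (congrArg (fun t => (tensorRight N).map t) h).symm)
      (by
        have h : (ChainComplex.of X d sq).d (m + 1) m = d m :=
          ChainComplex.of_d X d m
        refine (Category.id_comp _).trans (Eq.trans ?_ (Category.comp_id _).symm)
        exact (congrArg (fun t => (tensorRight N).map t) h).symm)
  exact ShortComplex.homologyMapIso e

/-- The prelude Koszul complex is the iterated cone on `A`. -/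
theorem nonempty_koszul_iso (l : List A) :
    Nonempty (Koszul.koszul A l ≅ kz (sgl (ModuleCat.of A A)) l) := by
  induction l with
  | nil => exact ⟨Iso.refl _⟩
  | cons f l ih =>
    obtain ⟨e⟩ := ih
    exact ⟨coneIso f e⟩

theorem free_X_kz (l : List A) : ∀ n : ℤ,
    Module.Free A ((kz (sgl (ModuleCat.of A A)) l).X n) := by
  induction l with
  | nil =>
    intro n
    by_cases hn : n = 0
    · subst hn
      exact Module.Free.of_equiv (HomologicalComplex.singleObjXSelf (ComplexShape.up ℤ) 0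
        (ModuleCat.of A A)).toLinearEquiv.symm
    · haveI : Subsingleton ((kz (sgl (ModuleCat.of A A)) []).X n) :=
        ModuleCat.subsingleton_of_isZero
          (HomologicalComplex.isZero_single_obj_X (ComplexShape.up ℤ) 0 _ n hn)
      infer_instance
  | cons f l ih =>
    intro n
    haveI := ih (n + 1)
    haveI := ih n
    exact Module.Free.of_equiv (coneEquiv f (kz (sgl (ModuleCat.of A A)) l) (n + 1) n rfl).symm

end general

section reg

variable {A : Type u} [CommRing A]

open RingTheory.Sequence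

theorem length_tor_zero (I : Ideal A) (M : Type u) [AddCommGroup M] [Module A M] :
    Module.length A (DRing.Tor A 0 (A ⧸ I) M) =
      Module.length A (M ⧸ I • (⊤ : Submodule A M)) := by
  have e := ((tensorLeft (ModuleCat.of A (A ⧸ I))).leftDerivedZeroIsoSelf).app (ModuleCat.of A M)
  have h1 : Module.length A (DRing.Tor A 0 (A ⧸ I) M) =
      Module.length A (TensorProduct A (A ⧸ I) M) := e.toLinearEquiv.length_eq
  rw [h1]
  exact (TensorProduct.quotTensorEquivQuotSMul M I).length_eq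

/-- For an `A`-regular sequence `l`: `ℓ(Tor_{m+1}(A/(l), M)) = ℓ(H^{-(m+1)}(K(l) ⊗ M))`. -/
theorem length_tor_succ_eq (l : List A) (hreg : IsWeaklyRegular A l) (I : Ideal A)
    (hI : I = Ideal.span {a | a ∈ l}) (M : Type u) [AddCommGroup M] [Module A M] (m : ℕ) :
    Module.length A (DRing.Tor A (m + 1) (A ⧸ I) M) = hl l M (-((m + 1 : ℕ) : ℤ)) := by
  obtain ⟨e⟩ := nonempty_koszul_iso l
  obtain ⟨hz, ⟨φ0⟩⟩ := kz_regular l A hreg
  have hsub : (Ideal.ofList l • (⊤ : Submodule A A)) = I := by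
    rw [hI]
    show Ideal.span {a | a ∈ l} • (⊤ : Ideal A) = _
    rw [smul_eq_mul, Ideal.mul_top]
  let φ : (Koszul.koszul A l).homology 0 ≅ ModuleCat.of A (A ⧸ I) :=
    (HomologicalComplex.homologyFunctor _ _ 0).mapIso e ≪≫ φ0 ≪≫
      (Submodule.quotEquivOfEq _ _ hsub).toModuleIso
  have hE : ∀ i : ℤ, 0 < i → IsZero ((Koszul.koszul A l).X i) := fun i hi =>
    IsZero.of_iso (isZero_kz_pos (ModuleCat.of A A) l i hi)
      ((HomologicalComplex.eval _ _ i).mapIso e)
  have hp : ∀ i, Projective ((Koszul.koszul A l).X i) := by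
    intro i
    haveI := free_X_kz l i
    have h : Projective ((kz (sgl (ModuleCat.of A A)) l).X i) := inferInstance
    exact Projective.of_iso ((HomologicalComplex.eval _ _ i).mapIso e).symm h
  have hex : ∀ i : ℤ, i ≠ 0 → (Koszul.koszul A l).ExactAt i := by
    intro i hi
    rw [HomologicalComplex.exactAt_iff_isZero_homology]
    exact IsZero.of_iso (hz i hi) ((HomologicalComplex.homologyFunctor _ _ i).mapIso e)
  obtain ⟨t⟩ := nonempty_tor_succ_iso (ModuleCat.of A (A ⧸ I)) (Koszul.koszul A l) hE hp hex φ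
    (ModuleCat.of A M) m
  show _ = Module.length A ((kz (sgl (ModuleCat.of A M)) l).homology _)
  rw [← length_homology_bridge]
  exact t.toLinearEquiv.length_eq

/-- Serre's intersection number `χ(A/(g), M)` is the Koszul Euler characteristic for a regular
sequence `g`. -/
theorem intMult_chi_eq_chi [IsNoetherianRing A] {c : ℕ} (g : Fin c → A)
    (hreg : IsWeaklyRegular A (List.ofFn g)) (M : Type u) [AddCommGroup M] [Module A M] :
    IntMult.chi A (A ⧸ Ideal.span (Set.range g)) M = chi (List.ofFn g) M := by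
  have hI : Ideal.span (Set.range g) = Ideal.span {a | a ∈ List.ofFn g} := (span_ofFn g).symm
  have hlen : ∀ i : ℕ, Module.length A (DRing.Tor A i (A ⧸ Ideal.span (Set.range g)) M) =
      hl (List.ofFn g) M (-(i : ℤ)) := by
    intro i
    cases i with
    | zero =>
      rw [length_tor_zero, Nat.cast_zero, neg_zero, Groth.Agent.S3311.hl_zero, span_ofFn]
    | succ m => exact length_tor_succ_eq (List.ofFn g) hreg _ hI M m
  unfold IntMult.chi
  simp only [hlen]
  rw [Groth.Agent.S3311.chi_eq_sum, List.length_ofFn]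
  refine finsum_eq_sum_of_support_subset _ ?_
  intro i hi
  rw [Finset.coe_range, Set.mem_Iio]
  by_contra hlt
  apply hi
  show (-1 : ℤ) ^ i * ((hl (List.ofFn g) M (-(i : ℤ))).toNat : ℤ) = 0
  rw [hl_eq_zero (List.ofFn g) M (-(i : ℤ)) (Or.inl (by rw [List.length_ofFn]; omega))]
  simp

end reg

end Groth.Agent.H17.KE
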