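import Mathlib
import Groth.Agent.H17.HS.Len

/-!
# Linear algebra behind Serre's theorem `χ(x; M) = e(x; M)`

* `colen_eq_homology_add`: three-term colength bookkeeping for a filtered complex.
* `qlen`: `ℓ(X / bX)`; additivity over products.
* `sum_choose_eval`: the `k`-th finite difference of a polynomial of degree `≤ k`.
-/

set_option autoImplicit false

namespace Groth.Agent.H17.KE

open Groth.Agent.H17.HS

section L1

variable {A : Type*} [CommRing A]
variable {X' X X'' : Type*} [AddCommGroup X'] [Module A X'] [AddCommGroup X] [Module A X]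
  [AddCommGroup X''] [Module A X'']

/-- If `F ∩ Z = d'(F')`, then `ℓ(X/F) = ℓ(H) + ℓ(X'/(F'+Z')) + ℓ(X/(F+Z))`. -/
theorem colen_eq_homology_add (d' : X' →ₗ[A] X) (d : X →ₗ[A] X'')
    (hdd : ∀ x, d' x ∈ LinearMap.ker d) (F' : Submodule A X') (F : Submodule A X)
    (hF : F ⊓ LinearMap.ker d = F'.map d') :
    colen F = Module.length A
        (LinearMap.ker d ⧸ LinearMap.range (d'.codRestrict (LinearMap.ker d) hdd))
      + colen (F' ⊔ LinearMap.ker d') + colen (F ⊔ LinearMap.ker d) := by
  have h1 := colen_eq_add (LinearMap.ker d).subtype F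
  rw [Submodule.range_subtype] at h1
  have h2 := colen_eq_add (d'.codRestrict (LinearMap.ker d) hdd)
    (F.comap (LinearMap.ker d).subtype)
  have hc : (F.comap (LinearMap.ker d).subtype).comap (d'.codRestrict (LinearMap.ker d) hdd)
      = F' ⊔ LinearMap.ker d' := by
    rw [← Submodule.comap_comp, LinearMap.subtype_comp_codRestrict]
    have h3 : F.comap d' = (F ⊓ LinearMap.ker d).comap d' := by
      ext x
      simp only [Submodule.mem_comap, Submodule.mem_inf]
      exact ⟨fun h => ⟨h, hdd x⟩, fun h => h.1⟩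
    rw [h3, hF, Submodule.comap_map_eq]
  have hs : (F.comap (LinearMap.ker d).subtype) ⊔
      LinearMap.range (d'.codRestrict (LinearMap.ker d) hdd)
      = LinearMap.range (d'.codRestrict (LinearMap.ker d) hdd) := by
    apply sup_of_le_right
    intro z hz
    have hz' : (z : X) ∈ F'.map d' := by
      rw [← hF]
      exact ⟨hz, z.2⟩
    obtain ⟨u, -, hu⟩ := hz'
    exact ⟨u, Subtype.ext hu⟩
  rw [hc, hs] at h2
  rw [h1, h2]
  unfold colen
  ring

end L1

section qlen

variable {A : Type*} [CommRing A]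

/-- `ℓ(X / bX)`. -/
noncomputable def qlen (b : Ideal A) (X : Type*) [AddCommGroup X] [Module A X] : ℕ∞ :=
  Module.length A (X ⧸ b • (⊤ : Submodule A X))

theorem qlen_eq_colen (b : Ideal A) (X : Type*) [AddCommGroup X] [Module A X] :
    qlen b X = colen (b • (⊤ : Submodule A X)) := rfl

theorem qlen_eq_tensor (b : Ideal A) (X : Type*) [AddCommGroup X] [Module A X] :
    qlen b X = Module.length A (TensorProduct A (A ⧸ b) X) :=
  (TensorProduct.quotTensorEquivQuotSMul X b).length_eq.symm

theorem qlen_congr (b : Ideal A) {X Y : Type*} [AddCommGroup X] [Module A X] [AddCommGroup Y]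
    [Module A Y] (e : X ≃ₗ[A] Y) : qlen b X = qlen b Y := by
  rw [qlen_eq_tensor, qlen_eq_tensor]
  exact (LinearEquiv.lTensor (A ⧸ b) e).length_eq

theorem qlen_prod (b : Ideal A) (X Y : Type*) [AddCommGroup X] [Module A X] [AddCommGroup Y]
    [Module A Y] : qlen b (X × Y) = qlen b X + qlen b Y := by
  rw [qlen_eq_tensor, qlen_eq_tensor, qlen_eq_tensor,
    (TensorProduct.prodRight A A (A ⧸ b) X Y).length_eq, Module.length_prod]

theorem qlen_of_subsingleton (b : Ideal A) (X : Type*) [AddCommGroup X] [Module A X]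
    [Subsingleton X] : qlen b X = 0 := by
  unfold qlen
  exact Module.length_eq_zero

theorem map_smul_top_le {b : Ideal A} {X Y : Type*} [AddCommGroup X] [Module A X] [AddCommGroup Y]
    [Module A Y] (g : X →ₗ[A] Y) :
    (b • (⊤ : Submodule A X)).map g ≤ b • (⊤ : Submodule A Y) := by
  rw [Submodule.map_smul'']
  exact Submodule.smul_mono le_rfl le_top

theorem apply_mem_smul_top {b : Ideal A} {X Y : Type*} [AddCommGroup X] [Module A X]
    [AddCommGroup Y] [Module A Y] (g : X →ₗ[A] Y) {x : X} (hx : x ∈ b • (⊤ : Submodule A X)) :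
    g x ∈ b • (⊤ : Submodule A Y) :=
  map_smul_top_le g ⟨x, hx, rfl⟩

end qlen

section FD

open Polynomial Finset

/-- The `k`-th finite difference of a polynomial of degree `≤ k` is `k! · coeff_k`. -/
theorem fwdDiff_eq (P : ℚ[X]) (k : ℕ) (hk : P.natDegree ≤ k) (y : ℚ) :
    ∑ q ∈ range (k + 1), ((-1 : ℤ) ^ (k - q) * (k.choose q : ℤ)) • P.eval (y + q • (1 : ℚ))
      = (k.factorial : ℚ) * P.coeff k := by
  have h0 := fwdDiff_iter_eq_sum_shift (1 : ℚ) (fun x => P.eval x) k y
  refine h0.symm.trans ?_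
  rcases Nat.lt_or_ge P.natDegree k with hlt | hge
  · rw [Polynomial.fwdDiff_iter_eq_zero_of_degree_lt hlt, coeff_eq_zero_of_natDegree_lt hlt]
    simp
  · have hdeg : P.natDegree = k := le_antisymm hk hge
    have h1 := congrFun (P.fwdDiff_iter_degree_eq_factorial) y
    rw [hdeg] at h1
    rw [h1]
    simp [leadingCoeff, hdeg, mul_comm]

theorem sum_choose_eval (P : ℚ[X]) (k : ℕ) (hk : P.natDegree ≤ k) (i : ℕ) (hi : k ≤ i) :
    ∑ p ∈ range (k + 1), ((-1 : ℚ) ^ p * (k.choose p : ℚ)) * P.eval ((i - p : ℕ) : ℚ)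
      = (k.factorial : ℚ) * P.coeff k := by
  rw [← fwdDiff_eq P k hk ((i - k : ℕ) : ℚ), ← Finset.sum_range_reflect]
  refine Finset.sum_congr rfl (fun p hp => ?_)
  have hp' : p ≤ k := Nat.lt_succ_iff.mp (Finset.mem_range.mp hp)
  have e1 : k + 1 - 1 - p = k - p := by omega
  rw [e1, Nat.choose_symm hp']
  have e3 : ((i - k : ℕ) : ℚ) + p • (1 : ℚ) = ((i - (k - p) : ℕ) : ℚ) := by
    rw [nsmul_eq_mul, mul_one, ← Nat.cast_add]
    congr 1
    omega
  rw [e3, zsmul_eq_mul]
  push_cast
  ring

end FD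

end Groth.Agent.H17.KE
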