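import Groth.Agent.H17.KE.Kosz
import Groth.Agent.H17.HS.Mult
import Groth.Agent.H17.HS.Assoc

/-!
# Consequences of Serre's theorem `χ(x; M) = d! · coeff_d(Samuel polynomial)`
-/

set_option autoImplicit false

universe u
open Groth.Agent.H17.HS Polynomial Filter Topology

namespace Groth.Agent.H17.KE

section general

variable {A : Type u} [CommRing A] [IsNoetherianRing A]

/-- The Koszul Euler characteristic (the expression used in the statements). -/
noncomputable def chi (l : List A) (M : Type u) [AddCommGroup M] [Module A M] : ℤ :=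
  ∑ᶠ i : ℤ, ((i.negOnePow : ℤˣ) : ℤ) * ((Module.length A ((DRing.tensorCx
    (Koszul.koszul A l) (ModuleCat.of A M)).homology i)).toNat : ℤ)

theorem span_ofFn {d : ℕ} (x : Fin d → A) :
    Ideal.span {y | y ∈ List.ofFn x} = Ideal.span (Set.range x) := by
  congr 1
  ext y
  simp [List.mem_ofFn]

theorem colen_pow_ne_top_of_isFiniteLength (a : Ideal A) (M : Type u) [AddCommGroup M]
    [Module A M] [Module.Finite A M]
    (hfl : IsFiniteLength A (M ⧸ a • (⊤ : Submodule A M))) (j : ℕ) :
    colen (a ^ j • (⊤ : Submodule A M)) ≠ ⊤ := by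
  apply colen_pow_smul_top_ne_top a M
  have h := (Groth.Agent.S3406.isFiniteLength_iff_supportDim_le_zero A
    (M ⧸ a • (⊤ : Submodule A M))).mp hfl
  rwa [Module.supportDim, Module.support_quotient] at h

theorem isFiniteLength_of_colen_ne_top (a : Ideal A) (M : Type u) [AddCommGroup M]
    [Module A M] (h : colen (a ^ 1 • (⊤ : Submodule A M)) ≠ ⊤) :
    IsFiniteLength A (M ⧸ a • (⊤ : Submodule A M)) := by
  rw [pow_one] at h
  exact Module.length_ne_top_iff.mp h

theorem exists_samuelPoly_of_colen {d : ℕ} (x : Fin d → A) (M : Type u) [AddCommGroup M]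
    [Module A M] [Module.Finite A M]
    (hfin : ∀ j, colen (Ideal.span (Set.range x) ^ j • (⊤ : Submodule A M)) ≠ ⊤) :
    ∃ P : ℚ[X], HasSamuelPoly (Ideal.span (Set.range x)) M P ∧ P.natDegree ≤ d := by
  obtain ⟨P, hP, hS⟩ := exists_samuelPoly (N := M) x hfin
  exact ⟨P, hS, natDegree_le_iff_coeff_eq_zero.mpr (fun m hm => hP m hm)⟩

/-- Serre's theorem in the form used below. -/
theorem chi_eq {d : ℕ} (x : Fin d → A) (M : Type u) [AddCommGroup M] [Module A M]
    [Module.Finite A M]
    (hfin : ∀ j, colen (Ideal.span (Set.range x) ^ j • (⊤ : Submodule A M)) ≠ ⊤)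
    (P : ℚ[X]) (hP : HasSamuelPoly (Ideal.span (Set.range x)) M P) (hdeg : P.natDegree ≤ d) :
    ((chi (List.ofFn x) M : ℤ) : ℚ) = (d.factorial : ℚ) * P.coeff d := by
  have h := main (List.ofFn x) M (by rw [span_ofFn]; exact hfin) P
    (by rw [span_ofFn]; exact hP) (by rw [List.length_ofFn]; exact hdeg)
  rw [List.length_ofFn] at h
  exact h

theorem chi_eq_real {d : ℕ} (x : Fin d → A) (M : Type u) [AddCommGroup M] [Module A M]
    [Module.Finite A M]
    (hfin : ∀ j, colen (Ideal.span (Set.range x) ^ j • (⊤ : Submodule A M)) ≠ ⊤)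
    (P : ℚ[X]) (hP : HasSamuelPoly (Ideal.span (Set.range x)) M P) (hdeg : P.natDegree ≤ d) :
    ((chi (List.ofFn x) M : ℤ) : ℝ) = (d.factorial : ℝ) * ((P.coeff d : ℚ) : ℝ) := by
  have h := congrArg (fun q : ℚ => (q : ℝ)) (chi_eq x M hfin P hP hdeg)
  simpa using h

/-- The normalized Samuel function converges to the Koszul Euler characteristic. -/
theorem tendsto_chi {d : ℕ} (x : Fin d → A) (M : Type u) [AddCommGroup M] [Module A M]
    [Module.Finite A M]
    (hfin : ∀ j, colen (Ideal.span (Set.range x) ^ j • (⊤ : Submodule A M)) ≠ ⊤) :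
    Tendsto (fun t : ℕ => (d.factorial : ℝ) *
      (samuel (Ideal.span (Set.range x)) M t : ℝ) / (t : ℝ) ^ d) atTop
      (𝓝 ((chi (List.ofFn x) M : ℤ) : ℝ)) := by
  obtain ⟨P, hP, hdeg⟩ := exists_samuelPoly_of_colen x M hfin
  rw [chi_eq_real x M hfin P hP hdeg]
  exact tendsto_samuel_of_natDegree_le hP hdeg

/-- The real-valued finsum equals the cast of the integer one. -/
theorem chi_cast (l : List A) (M : Type u) [AddCommGroup M] [Module A M] :
    (∑ᶠ i : ℤ, ((((i.negOnePow : ℤˣ) : ℤ) : ℝ)) * ((((Module.length A ((DRing.tensorCx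
      (Koszul.koszul A l) (ModuleCat.of A M)).homology i)).toNat : ℤ) : ℝ)))
      = ((chi l M : ℤ) : ℝ) := by
  unfold chi
  have h := (Int.castAddHom ℝ).map_finsum_of_injective Int.cast_injective
    (fun i : ℤ => ((i.negOnePow : ℤˣ) : ℤ) * ((Module.length A ((DRing.tensorCx
      (Koszul.koszul A l) (ModuleCat.of A M)).homology i)).toNat : ℤ))
  refine Eq.trans ?_ h.symm
  refine finsum_congr (fun i => ?_)
  simp

theorem samuel_of_subsingleton (a : Ideal A) (M : Type u) [AddCommGroup M] [Module A M]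
    [Subsingleton M] (n : ℕ) : samuel a M n = 0 := by
  unfold samuel cn
  rw [colen_eq_zero_of_subsingleton]
  rfl

theorem pow_sup_smul_top (a b : Ideal A) (M : Type u) [AddCommGroup M] [Module A M]
    (hb : b ≤ Module.annihilator A M) (n : ℕ) :
    (a ⊔ b) ^ n • (⊤ : Submodule A M) = a ^ n • (⊤ : Submodule A M) := by
  induction n with
  | zero => simp
  | succ n ih =>
    rw [pow_succ', mul_smul, ih, Submodule.sup_smul, pow_succ', mul_smul]
    have h0 : b • (a ^ n • (⊤ : Submodule A M)) = ⊥ := by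
      rw [← le_bot_iff, Submodule.smul_le]
      intro r hr m _
      rw [Submodule.mem_bot]
      exact Module.mem_annihilator.mp (hb hr) m
    rw [h0, sup_bot_eq]

theorem samuel_sup_annihilator (a : Ideal A) (M : Type u) [AddCommGroup M] [Module A M] (n : ℕ) :
    samuel (a ⊔ Module.annihilator A M) M n = samuel a M n := by
  unfold samuel
  rw [pow_sup_smul_top a _ M le_rfl]

theorem hasSamuelPoly_sup_annihilator_iff (a : Ideal A) (M : Type u) [AddCommGroup M]
    [Module A M] (P : ℚ[X]) :
    HasSamuelPoly (a ⊔ Module.annihilator A M) M P ↔ HasSamuelPoly a M P := by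
  unfold HasSamuelPoly
  simp only [samuel_sup_annihilator]

end general

section loc

variable {A : Type u} [CommRing A] [IsNoetherianRing A] [IsLocalRing A]

/-- If `M/aM` has finite length then `a + Ann M` is `𝔪`-primary. -/
theorem exists_pow_le_sup_annihilator (a : Ideal A) (M : Type u) [AddCommGroup M] [Module A M]
    [Module.Finite A M] (hfl : IsFiniteLength A (M ⧸ a • (⊤ : Submodule A M))) :
    ∃ k, IsLocalRing.maximalIdeal A ^ k ≤ a ⊔ Module.annihilator A M := by
  apply Ideal.exists_pow_le_of_le_radical_of_fg _ (IsNoetherian.noetherian _)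
  rw [Ideal.radical_eq_sInf]
  refine le_sInf ?_
  rintro P ⟨hJP, hP⟩
  have hdim := (Groth.Agent.S3406.isFiniteLength_iff_supportDim_le_zero A _).mp hfl
  rw [Module.supportDim, Module.support_quotient, Order.krullDim_nonpos_iff_forall_isMax] at hdim
  have hmem : ∀ (Q : Ideal A) (hQ : Q.IsPrime), a ⊔ Module.annihilator A M ≤ Q →
      (⟨Q, hQ⟩ : PrimeSpectrum A) ∈ Module.support A M ∩ PrimeSpectrum.zeroLocus (a : Set A) := by
    intro Q hQ hJQ
    exact ⟨Module.mem_support_iff_of_finite.mpr (le_sup_right.trans hJQ),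
      (PrimeSpectrum.mem_zeroLocus _ _).mpr (fun r hr => hJQ (Ideal.mem_sup_left hr))⟩
  have hPm : P ≤ IsLocalRing.maximalIdeal A := IsLocalRing.le_maximalIdeal hP.ne_top
  have h1 := hdim ⟨⟨P, hP⟩, hmem P hP hJP⟩
  have h2 := @h1 ⟨⟨IsLocalRing.maximalIdeal A, inferInstance⟩,
    hmem _ _ (hJP.trans hPm)⟩ hPm
  exact h2

end loc

end Groth.Agent.H17.KE
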