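import Groth.Agent.H17.Chi

/-!
# Linear algebra of mapping cones of scalar multiplications

* `Hm d' d h`: the concrete homology `ker d / im d'`.
* `length_Hm_congr`: conjugate three-term complexes have homology of the same length.
* `length_cone_homology`: `ℓ(H(cone z)) = ℓ(H¹/zH¹) + ℓ(H²[z])`.
* `index_mul`: `ℓ(N[y]) + ℓ(N[x]) + ℓ(N/xyN) = ℓ(N[xy]) + ℓ(N/yN) + ℓ(N/xN)`.
-/

set_option autoImplicit false

namespace Groth.Agent.H17.KE

open Groth.Agent.H17.Chi
open scoped Pointwise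

variable {A : Type*} [CommRing A]

section HmBasic

variable {X' X X'' : Type*} [AddCommGroup X'] [Module A X'] [AddCommGroup X] [Module A X]
  [AddCommGroup X''] [Module A X'']

/-- The concrete homology `ker d / im d'` of `X' → X → X''`. -/
abbrev Hm (d' : X' →ₗ[A] X) (d : X →ₗ[A] X'') (h : ∀ x, d' x ∈ LinearMap.ker d) : Type _ :=
  LinearMap.ker d ⧸ LinearMap.range (d'.codRestrict (LinearMap.ker d) h)

theorem Hm_mk_eq_zero_iff (d' : X' →ₗ[A] X) (d : X →ₗ[A] X'')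
    (h : ∀ x, d' x ∈ LinearMap.ker d) (z : LinearMap.ker d) :
    (Submodule.Quotient.mk z : Hm d' d h) = 0 ↔ ∃ t, d' t = (z : X) := by
  rw [Submodule.Quotient.mk_eq_zero, LinearMap.mem_range]
  constructor
  · rintro ⟨t, ht⟩
    exact ⟨t, by rw [← ht]; rfl⟩
  · rintro ⟨t, ht⟩
    exact ⟨t, Subtype.ext ht⟩

theorem Hm_mk_eq_mk_iff (d' : X' →ₗ[A] X) (d : X →ₗ[A] X'')
    (h : ∀ x, d' x ∈ LinearMap.ker d) (z w : LinearMap.ker d) :
    (Submodule.Quotient.mk z : Hm d' d h) = Submodule.Quotient.mk w ↔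
      ∃ t, d' t = (z : X) - (w : X) := by
  rw [← sub_eq_zero, ← Submodule.Quotient.mk_sub, Hm_mk_eq_zero_iff]
  rfl

end HmBasic

section Congr

variable {Y0 Y1 Y2 X0 X1 X2 : Type*} [AddCommGroup Y0] [Module A Y0] [AddCommGroup Y1]
  [Module A Y1] [AddCommGroup Y2] [Module A Y2] [AddCommGroup X0] [Module A X0] [AddCommGroup X1]
  [Module A X1] [AddCommGroup X2] [Module A X2]

/-- Conjugate complexes have homology of the same length. -/
theorem length_Hm_congr (δ0 : Y0 →ₗ[A] Y1) (δ1 : Y1 →ₗ[A] Y2)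
    (hδ : ∀ x, δ0 x ∈ LinearMap.ker δ1) (D0 : X0 →ₗ[A] X1) (D1 : X1 →ₗ[A] X2)
    (hD : ∀ x, D0 x ∈ LinearMap.ker D1) (e0 : Y0 ≃ₗ[A] X0) (e1 : Y1 ≃ₗ[A] X1) (e2 : Y2 ≃ₗ[A] X2)
    (h0 : ∀ y, e1 (δ0 y) = D0 (e0 y)) (h1 : ∀ y, e2 (δ1 y) = D1 (e1 y)) :
    Module.length A (Hm δ0 δ1 hδ) = Module.length A (Hm D0 D1 hD) := by
  have hker : ∀ y ∈ LinearMap.ker δ1, (e1 : Y1 →ₗ[A] X1) y ∈ LinearMap.ker D1 := by
    intro y hy
    rw [LinearMap.mem_ker] at hy ⊢
    rw [LinearEquiv.coe_coe, ← h1, hy, map_zero]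
  obtain ⟨φ, hφ⟩ : ∃ φ : Hm δ0 δ1 hδ →ₗ[A] Hm D0 D1 hD, ∀ y : LinearMap.ker δ1,
      φ (Submodule.Quotient.mk y) = Submodule.Quotient.mk ⟨e1 y, hker y y.2⟩ := by
    refine ⟨Submodule.mapQ _ _ ((e1 : Y1 →ₗ[A] X1).restrict hker) ?_, fun y => rfl⟩
    rintro _ ⟨t, rfl⟩
    rw [Submodule.mem_comap, LinearMap.mem_range]
    exact ⟨e0 t, Subtype.ext (h0 t).symm⟩
  have hinj : Function.Injective φ := by
    rw [← LinearMap.ker_eq_bot, LinearMap.ker_eq_bot']
    intro g hg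
    obtain ⟨y, rfl⟩ := Submodule.Quotient.mk_surjective _ g
    rw [hφ, Hm_mk_eq_zero_iff] at hg
    obtain ⟨t, ht⟩ := hg
    rw [Hm_mk_eq_zero_iff]
    refine ⟨e0.symm t, e1.injective ?_⟩
    rw [h0, LinearEquiv.apply_symm_apply]
    exact ht
  have hsurj : Function.Surjective φ := by
    intro g
    obtain ⟨w, rfl⟩ := Submodule.Quotient.mk_surjective _ g
    have hw : e1.symm (w : X1) ∈ LinearMap.ker δ1 := by
      rw [LinearMap.mem_ker]
      apply e2.injective
      rw [h1, LinearEquiv.apply_symm_apply, map_zero]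
      exact w.2
    refine ⟨Submodule.Quotient.mk ⟨_, hw⟩, ?_⟩
    rw [hφ]
    congr 1
    exact Subtype.ext (LinearEquiv.apply_symm_apply e1 _)
  exact (LinearEquiv.ofBijective φ ⟨hinj, hsurj⟩).length_eq

end Congr

section ConeA

variable {X0 X1 X2 X3 : Type*} [AddCommGroup X0] [Module A X0] [AddCommGroup X1] [Module A X1]
  [AddCommGroup X2] [Module A X2] [AddCommGroup X3] [Module A X3]

/-- The differential of the cone of `z`: `(u, v) ↦ (-d u, z u + d v)`. -/
def coneD {P Q R : Type*} [AddCommGroup P] [Module A P] [AddCommGroup Q] [Module A Q]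
    [AddCommGroup R] [Module A R] (dt : Q →ₗ[A] R) (db : P →ₗ[A] Q) (z : A) :
    (Q × P) →ₗ[A] (R × Q) :=
  (-(dt ∘ₗ LinearMap.fst A Q P)).prod (z • LinearMap.fst A Q P + db ∘ₗ LinearMap.snd A Q P)

theorem coneD_apply {P Q R : Type*} [AddCommGroup P] [Module A P] [AddCommGroup Q] [Module A Q]
    [AddCommGroup R] [Module A R] (dt : Q →ₗ[A] R) (db : P →ₗ[A] Q) (z : A) (w : Q × P) :
    coneD dt db z w = (-(dt w.1), z • w.1 + db w.2) := rfl

variable (d0 : X0 →ₗ[A] X1) (d1 : X1 →ₗ[A] X2) (d2 : X2 →ₗ[A] X3)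
  (h01 : ∀ x, d0 x ∈ LinearMap.ker d1) (h12 : ∀ x, d1 x ∈ LinearMap.ker d2) (z : A)

include h01 h12 in
theorem coneD_mem_ker (w : X1 × X0) :
    coneD d1 d0 z w ∈ LinearMap.ker (coneD d2 d1 z) := by
  rw [LinearMap.mem_ker, coneD_apply, coneD_apply]
  have e1 : d2 (d1 w.1) = 0 := h12 w.1
  have e2 : d1 (d0 w.2) = 0 := h01 w.2
  refine Prod.ext ?_ ?_
  · simp [e1]
  · simp [e2]

/-- `ℓ(H(cone z)) = ℓ(H¹/zH¹) + ℓ(H²[z])`. -/
theorem length_cone_homology :
    Module.length A (Hm (coneD d1 d0 z) (coneD d2 d1 z) (coneD_mem_ker d0 d1 d2 h01 h12 z)) =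
      Module.length A (Hm d0 d1 h01 ⧸ z • (⊤ : Submodule A (Hm d0 d1 h01))) +
      Module.length A (LinearMap.ker (LinearMap.lsmul A (Hm d1 d2 h12) z)) := by
  -- components of cocycles of the cone
  have hcoc : ∀ w : LinearMap.ker (coneD d2 d1 z),
      d2 (w : X2 × X1).1 = 0 ∧ z • (w : X2 × X1).1 + d1 (w : X2 × X1).2 = 0 := by
    intro w
    have hw := w.2
    rw [LinearMap.mem_ker, coneD_apply] at hw
    exact ⟨neg_eq_zero.mp (congrArg Prod.fst hw), congrArg Prod.snd hw⟩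
  have hπ₀ : ∀ w : LinearMap.ker (coneD d2 d1 z), (w : X2 × X1).1 ∈ LinearMap.ker d2 :=
    fun w => (hcoc w).1
  have hι₀ : ∀ v : LinearMap.ker d1, ((0 : X2), (v : X1)) ∈ LinearMap.ker (coneD d2 d1 z) := by
    intro v
    rw [LinearMap.mem_ker, coneD_apply]
    have hv : d1 (v : X1) = 0 := v.2
    refine Prod.ext ?_ ?_
    · simp
    · simp [hv]
  obtain ⟨π, hπ⟩ : ∃ π : Hm (coneD d1 d0 z) (coneD d2 d1 z) (coneD_mem_ker d0 d1 d2 h01 h12 z)
      →ₗ[A] Hm d1 d2 h12, ∀ w : LinearMap.ker (coneD d2 d1 z),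
        π (Submodule.Quotient.mk w) = Submodule.Quotient.mk ⟨(w : X2 × X1).1, hπ₀ w⟩ := by
    refine ⟨Submodule.mapQ _ _ (((LinearMap.fst A X2 X1) ∘ₗ
      (LinearMap.ker (coneD d2 d1 z)).subtype).codRestrict _ hπ₀) ?_, fun w => rfl⟩
    rintro _ ⟨t, rfl⟩
    rw [Submodule.mem_comap, LinearMap.mem_range]
    refine ⟨-t.1, Subtype.ext ?_⟩
    show d1 (-t.1) = (coneD d1 d0 z t).1
    rw [coneD_apply, map_neg]
  obtain ⟨ι, hι⟩ : ∃ ι : Hm d0 d1 h01 →ₗ[A]
      Hm (coneD d1 d0 z) (coneD d2 d1 z) (coneD_mem_ker d0 d1 d2 h01 h12 z),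
      ∀ v : LinearMap.ker d1, ι (Submodule.Quotient.mk v) =
        Submodule.Quotient.mk ⟨((0 : X2), (v : X1)), hι₀ v⟩ := by
    refine ⟨Submodule.mapQ _ _ (((LinearMap.inr A X2 X1) ∘ₗ
      (LinearMap.ker d1).subtype).codRestrict _ hι₀) ?_, fun v => rfl⟩
    rintro _ ⟨t, rfl⟩
    rw [Submodule.mem_comap, LinearMap.mem_range]
    refine ⟨((0 : X1), t), Subtype.ext ?_⟩
    show coneD d1 d0 z ((0 : X1), t) = ((0 : X2), d0 t)
    rw [coneD_apply]
    refine Prod.ext ?_ ?_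
    · simp
    · simp
  -- exactness
  have c1 : LinearMap.ker π = LinearMap.range ι := by
    ext h
    obtain ⟨w, rfl⟩ := Submodule.Quotient.mk_surjective _ h
    rw [LinearMap.mem_ker, hπ, Hm_mk_eq_zero_iff, LinearMap.mem_range]
    constructor
    · rintro ⟨t, ht⟩
      have ht' : d1 t = (w : X2 × X1).1 := ht
      have hv' : (w : X2 × X1).2 + z • t ∈ LinearMap.ker d1 := by
        rw [LinearMap.mem_ker, map_add, map_smul, ht', add_comm]
        exact (hcoc w).2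
      refine ⟨Submodule.Quotient.mk ⟨_, hv'⟩, ?_⟩
      rw [hι, Hm_mk_eq_mk_iff]
      refine ⟨(t, 0), ?_⟩
      rw [coneD_apply]
      refine Prod.ext ?_ ?_
      · simp [ht']
      · simp
    · rintro ⟨g, hg⟩
      obtain ⟨v, rfl⟩ := Submodule.Quotient.mk_surjective _ g
      rw [hι, Hm_mk_eq_mk_iff] at hg
      obtain ⟨t, ht⟩ := hg
      rw [coneD_apply] at ht
      have h1 := congrArg Prod.fst ht
      refine ⟨t.1, ?_⟩
      simpa using h1
  have c2 : LinearMap.range π = LinearMap.ker (LinearMap.lsmul A (Hm d1 d2 h12) z) := by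
    ext g
    rw [LinearMap.mem_ker, LinearMap.lsmul_apply, LinearMap.mem_range]
    constructor
    · rintro ⟨h, rfl⟩
      obtain ⟨w, rfl⟩ := Submodule.Quotient.mk_surjective _ h
      rw [hπ, ← Submodule.Quotient.mk_smul, Hm_mk_eq_zero_iff]
      refine ⟨-(w : X2 × X1).2, ?_⟩
      rw [map_neg, neg_eq_iff_add_eq_zero, add_comm]
      exact (hcoc w).2
    · intro hg
      obtain ⟨u, rfl⟩ := Submodule.Quotient.mk_surjective _ g
      rw [← Submodule.Quotient.mk_smul, Hm_mk_eq_zero_iff] at hg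
      obtain ⟨t, ht⟩ := hg
      have ht' : d1 t = z • (u : X2) := ht
      have hu : d2 (u : X2) = 0 := u.2
      have hw : ((u : X2), -t) ∈ LinearMap.ker (coneD d2 d1 z) := by
        rw [LinearMap.mem_ker, coneD_apply]
        refine Prod.ext ?_ ?_
        · simp [hu]
        · simp [ht']
      refine ⟨Submodule.Quotient.mk ⟨_, hw⟩, ?_⟩
      rw [hπ]
  have c3 : LinearMap.ker ι = z • (⊤ : Submodule A (Hm d0 d1 h01)) := by
    ext g
    obtain ⟨v, rfl⟩ := Submodule.Quotient.mk_surjective _ g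
    rw [LinearMap.mem_ker, hι, Hm_mk_eq_zero_iff, Submodule.mem_smul_pointwise_iff_exists]
    constructor
    · rintro ⟨t, ht⟩
      rw [coneD_apply] at ht
      have h1 : -(d1 t.1) = 0 := congrArg Prod.fst ht
      have h2 : z • t.1 + d0 t.2 = (v : X1) := congrArg Prod.snd ht
      have ht1 : t.1 ∈ LinearMap.ker d1 := neg_eq_zero.mp h1
      refine ⟨Submodule.Quotient.mk ⟨t.1, ht1⟩, Submodule.mem_top, ?_⟩
      rw [← Submodule.Quotient.mk_smul, Hm_mk_eq_mk_iff]
      refine ⟨-t.2, ?_⟩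
      rw [map_neg, ← h2]
      simp
    · rintro ⟨g', -, hg'⟩
      obtain ⟨u, rfl⟩ := Submodule.Quotient.mk_surjective _ g'
      rw [← Submodule.Quotient.mk_smul, Hm_mk_eq_mk_iff] at hg'
      obtain ⟨t, ht⟩ := hg'
      have hu : d1 (u : X1) = 0 := u.2
      refine ⟨((u : X1), -t), ?_⟩
      rw [coneD_apply]
      refine Prod.ext ?_ ?_
      · simp [hu]
      · have ht' : d0 t = z • (u : X1) - (v : X1) := ht
        simp [ht']
  have h1 := length_eq_ker_add_range π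
  have h2 := ι.quotKerEquivRange.length_eq
  rw [c1, c2] at h1
  rw [h1, ← h2]
  congr 1
  exact (Submodule.quotEquivOfEq _ _ c3).length_eq

end ConeA

section Index

variable (N : Type*) [AddCommGroup N] [Module A N] (x y : A)

/-- Additivity of the index `ℓ(N/xN) - ℓ(N[x])` in `x`, written without subtraction. -/
theorem index_mul :
    Module.length A (LinearMap.ker (LinearMap.lsmul A N y)) +
        Module.length A (LinearMap.ker (LinearMap.lsmul A N x)) +
        Module.length A (N ⧸ (x * y) • (⊤ : Submodule A N)) =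
      Module.length A (LinearMap.ker (LinearMap.lsmul A N (x * y))) +
        Module.length A (N ⧸ y • (⊤ : Submodule A N)) +
        Module.length A (N ⧸ x • (⊤ : Submodule A N)) := by
  have hmemx : ∀ n : N, n ∈ LinearMap.ker (LinearMap.lsmul A N x) ↔ x • n = 0 := fun n => by
    rw [LinearMap.mem_ker, LinearMap.lsmul_apply]
  have hmemy : ∀ n : N, n ∈ LinearMap.ker (LinearMap.lsmul A N y) ↔ y • n = 0 := fun n => by
    rw [LinearMap.mem_ker, LinearMap.lsmul_apply]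
  have hmemxy : ∀ n : N, n ∈ LinearMap.ker (LinearMap.lsmul A N (x * y)) ↔ x • y • n = 0 :=
    fun n => by rw [LinearMap.mem_ker, LinearMap.lsmul_apply, mul_smul]
  have hle : LinearMap.ker (LinearMap.lsmul A N y) ≤ LinearMap.ker (LinearMap.lsmul A N (x * y)) :=
    fun n hn => by rw [hmemxy, (hmemy n).mp hn, smul_zero]
  have hb : ∀ n ∈ LinearMap.ker (LinearMap.lsmul A N (x * y)),
      LinearMap.lsmul A N y n ∈ LinearMap.ker (LinearMap.lsmul A N x) := fun n hn => by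
    rw [hmemx, LinearMap.lsmul_apply]
    exact (hmemxy n).mp hn
  have he : y • (⊤ : Submodule A N) ≤
      ((x * y) • (⊤ : Submodule A N)).comap (LinearMap.lsmul A N x) := by
    intro n hn
    obtain ⟨n', -, rfl⟩ := (Submodule.mem_smul_pointwise_iff_exists _ _ _).mp hn
    rw [Submodule.mem_comap, LinearMap.lsmul_apply, ← mul_smul]
    exact Submodule.smul_mem_pointwise_smul _ _ _ Submodule.mem_top
  have hf : (x * y) • (⊤ : Submodule A N) ≤ x • (⊤ : Submodule A N) := by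
    intro n hn
    obtain ⟨n', -, rfl⟩ := (Submodule.mem_smul_pointwise_iff_exists _ _ _).mp hn
    rw [mul_smul]
    exact Submodule.smul_mem_pointwise_smul _ _ _ Submodule.mem_top
  have hmkx : ∀ n : N, (Submodule.Quotient.mk n : N ⧸ x • (⊤ : Submodule A N)) = 0 ↔
      ∃ m, x • m = n := fun n => by
    rw [Submodule.Quotient.mk_eq_zero, Submodule.mem_smul_pointwise_iff_exists]
    exact ⟨fun ⟨m, _, h⟩ => ⟨m, h⟩, fun ⟨m, h⟩ => ⟨m, Submodule.mem_top, h⟩⟩
  have hmky : ∀ n : N, (Submodule.Quotient.mk n : N ⧸ y • (⊤ : Submodule A N)) = 0 ↔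
      ∃ m, y • m = n := fun n => by
    rw [Submodule.Quotient.mk_eq_zero, Submodule.mem_smul_pointwise_iff_exists]
    exact ⟨fun ⟨m, _, h⟩ => ⟨m, h⟩, fun ⟨m, h⟩ => ⟨m, Submodule.mem_top, h⟩⟩
  have hmkxy : ∀ n : N, (Submodule.Quotient.mk n : N ⧸ (x * y) • (⊤ : Submodule A N)) = 0 ↔
      ∃ m, x • y • m = n := fun n => by
    rw [Submodule.Quotient.mk_eq_zero, Submodule.mem_smul_pointwise_iff_exists]
    exact ⟨fun ⟨m, _, h⟩ => ⟨m, by rw [← mul_smul]; exact h⟩,
      fun ⟨m, h⟩ => ⟨m, Submodule.mem_top, by rw [mul_smul]; exact h⟩⟩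
  refine length_six (Submodule.inclusion hle) ((LinearMap.lsmul A N y).restrict hb)
    ((y • (⊤ : Submodule A N)).mkQ ∘ₗ (LinearMap.ker (LinearMap.lsmul A N x)).subtype)
    (Submodule.mapQ _ _ (LinearMap.lsmul A N x) he) (Submodule.factor hf)
    (Submodule.inclusion_injective hle) ?_ ?_ ?_ ?_ (Submodule.factor_surjective hf)
  · -- exact at ker (xy)
    intro n
    constructor
    · intro hn
      have hn' : y • (n : N) = 0 := congrArg Subtype.val hn
      exact ⟨⟨n, (hmemy _).mpr hn'⟩, Subtype.ext rfl⟩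
    · rintro ⟨m, rfl⟩
      exact Subtype.ext ((hmemy _).mp m.2)
  · -- exact at ker x
    intro n
    constructor
    · intro hn
      have hn' : (Submodule.Quotient.mk (n : N) : N ⧸ y • (⊤ : Submodule A N)) = 0 := hn
      obtain ⟨m, hm⟩ := (hmky _).mp hn'
      have hm' : m ∈ LinearMap.ker (LinearMap.lsmul A N (x * y)) := by
        rw [hmemxy, hm]
        exact (hmemx _).mp n.2
      exact ⟨⟨m, hm'⟩, Subtype.ext hm⟩
    · rintro ⟨m, rfl⟩
      show (Submodule.Quotient.mk (y • (m : N)) : N ⧸ y • (⊤ : Submodule A N)) = 0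
      exact (hmky _).mpr ⟨m, rfl⟩
  · -- exact at N/yN
    intro g
    obtain ⟨n, rfl⟩ := Submodule.Quotient.mk_surjective _ g
    constructor
    · intro hn
      have hn' : (Submodule.Quotient.mk (x • n) : N ⧸ (x * y) • (⊤ : Submodule A N)) = 0 := hn
      obtain ⟨m, hm⟩ := (hmkxy _).mp hn'
      have hk : n - y • m ∈ LinearMap.ker (LinearMap.lsmul A N x) := by
        rw [hmemx, smul_sub, hm, sub_self]
      refine ⟨⟨_, hk⟩, ?_⟩
      show (Submodule.Quotient.mk (n - y • m) : N ⧸ y • (⊤ : Submodule A N)) =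
        Submodule.Quotient.mk n
      rw [Submodule.Quotient.mk_sub, (hmky _).mpr ⟨m, rfl⟩, sub_zero]
    · rintro ⟨k, hk⟩
      have hk' : (Submodule.Quotient.mk (k : N) : N ⧸ y • (⊤ : Submodule A N)) =
          Submodule.Quotient.mk n := hk
      obtain ⟨m, hm⟩ := (hmky _).mp (by rw [Submodule.Quotient.mk_sub, hk', sub_self] :
        (Submodule.Quotient.mk ((k : N) - n) : N ⧸ y • (⊤ : Submodule A N)) = 0)
      show (Submodule.Quotient.mk (x • n) : N ⧸ (x * y) • (⊤ : Submodule A N)) = 0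
      refine (hmkxy _).mpr ⟨-m, ?_⟩
      have hxk : x • (k : N) = 0 := (hmemx _).mp k.2
      rw [smul_neg, smul_neg, hm, smul_sub, hxk, zero_sub, neg_neg]
  · -- exact at N/xyN
    intro g
    obtain ⟨n, rfl⟩ := Submodule.Quotient.mk_surjective _ g
    constructor
    · intro hn
      have hn' : (Submodule.Quotient.mk n : N ⧸ x • (⊤ : Submodule A N)) = 0 := hn
      obtain ⟨m, hm⟩ := (hmkx _).mp hn'
      refine ⟨Submodule.Quotient.mk m, ?_⟩
      show (Submodule.Quotient.mk (x • m) : N ⧸ (x * y) • (⊤ : Submodule A N)) =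
        Submodule.Quotient.mk n
      rw [hm]
    · rintro ⟨g', hg'⟩
      obtain ⟨m, rfl⟩ := Submodule.Quotient.mk_surjective _ g'
      have h1 : (Submodule.Quotient.mk (x • m) : N ⧸ (x * y) • (⊤ : Submodule A N)) =
          Submodule.Quotient.mk n := hg'
      show (Submodule.Quotient.mk n : N ⧸ x • (⊤ : Submodule A N)) = 0
      have h2 : (Submodule.Quotient.mk (x • m - n) : N ⧸ (x * y) • (⊤ : Submodule A N)) = 0 := by
        rw [Submodule.Quotient.mk_sub, h1, sub_self]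
      obtain ⟨m', hm'⟩ := (hmkxy _).mp h2
      refine (hmkx _).mpr ⟨m - y • m', ?_⟩
      rw [smul_sub, hm']
      abel

end Index

end Groth.Agent.H17.KE
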