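import Groth.Agent.H17.KE.Alg
import Groth.Agent.H59.KoszHtpy

/-!
# Serre's filtration argument for a bounded complex with null-homotopic scalars

For a cochain complex `K` of finite modules over a Noetherian ring, concentrated in degrees
`[-k, 0]`, whose differentials have image in `a K` and on which every element of `a` is
null-homotopic, the Euler characteristic of the homology equals
`Σ (-1)^p ℓ(K^{-p} / a^{i-p} K^{-p})` for `i ≫ 0`.
-/

set_option autoImplicit false

universe u
open CategoryTheory CochainComplex HomologicalComplex Limits HomComplex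
open Groth.Agent.H17.HS Groth.Agent.H59.Kosz

namespace Groth.Agent.H17.KE

variable {A : Type u} [CommRing A]

theorem d_mem_ker (K : Cx A) (i j k : ℤ) (x : K.X i) :
    (K.d i j).hom x ∈ LinearMap.ker (K.d j k).hom := by
  rw [LinearMap.mem_ker]
  exact (K.sc' i j k).moduleCat_zero_apply x

/-- The length of the categorical homology, concretely. -/
theorem length_homology_eq (K : Cx A) (i j k : ℤ) (hij : i + 1 = j) (hjk : j + 1 = k) :
    Module.length A (K.homology j) = Module.length A
      (LinearMap.ker (K.d j k).hom ⧸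
        LinearMap.range ((K.d i j).hom.codRestrict (LinearMap.ker (K.d j k).hom)
          (d_mem_ker K i j k))) := by
  have e := K.homologyIsoSc' i j k (by rw [CochainComplex.prev]; omega)
    (by rw [CochainComplex.next]; omega) ≪≫ (K.sc' i j k).moduleCatHomologyIso
  exact e.toLinearEquiv.length_eq

theorem colen_eq_zero_of_subsingleton {X : Type*} [AddCommGroup X] [Module A X] [Subsingleton X]
    (W : Submodule A X) : colen W = 0 := by
  unfold colen
  refine nonpos_iff_eq_zero.mp ?_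
  exact (Module.length_le_of_surjective W.mkQ W.mkQ_surjective).trans
    (le_of_eq Module.length_eq_zero)

theorem colen_top' {X : Type*} [AddCommGroup X] [Module A X] :
    colen (⊤ : Submodule A X) = 0 := by
  unfold colen
  exact Module.length_eq_zero_iff.mpr (Submodule.Quotient.subsingleton_iff.mpr rfl)

/-- Conversion of the `ℤ`-indexed finsum to a finite sum over `p = -n`. -/
theorem finsum_eq_sum_range (g : ℤ → ℤ) (k : ℕ)
    (hg : ∀ n : ℤ, (n < -(k : ℤ) ∨ 0 < n) → g n = 0) :
    ∑ᶠ n : ℤ, g n = ∑ p ∈ Finset.range (k + 1), g (-(p : ℤ)) := by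
  classical
  have hsupp : Function.support g ⊆
      ↑((Finset.range (k + 1)).image (fun p : ℕ => -(p : ℤ))) := by
    intro n hn
    have hn' : g n ≠ 0 := hn
    have h1 : ¬ (n < -(k : ℤ) ∨ 0 < n) := fun h => hn' (hg n h)
    simp only [Finset.coe_image, Finset.coe_range, Set.mem_image, Set.mem_Iio]
    refine ⟨(-n).toNat, by omega, by omega⟩
  rw [finsum_eq_sum_of_support_subset g hsupp, Finset.sum_image]
  intro p _ q _ hpq
  have : (-(p : ℤ)) = -(q : ℤ) := hpq
  omega

section main

variable [IsNoetherianRing A]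

/-- Artin–Rees plus null-homotopies: the filtration is eventually "exact". -/
theorem inf_ker_eq_map (K : Cx A) (a : Ideal A) (m n k : ℤ) (hmn : m + 1 = n) (hnk : n + 1 = k)
    [Module.Finite A (K.X n)]
    (hd : LinearMap.range (K.d m n).hom ≤ a • (⊤ : Submodule A (K.X n)))
    (hNH : ∀ y ∈ a, NH K y) :
    ∃ c : ℕ, ∀ j, c ≤ j →
      (a ^ (j + 1) • (⊤ : Submodule A (K.X n))) ⊓ LinearMap.ker (K.d n k).hom
        = (a ^ j • (⊤ : Submodule A (K.X m))).map (K.d m n).hom := by
  obtain ⟨c, hc⟩ := Ideal.exists_pow_inf_eq_pow_smul a (LinearMap.ker (K.d n k).hom)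
  refine ⟨c, fun j hj => ?_⟩
  have h1 := hc (j + 1) (by omega)
  have h2 := hc j hj
  have hjc : j + 1 - c = j - c + 1 := by omega
  have h3 : a ^ (j + 1) • (⊤ : Submodule A (K.X n)) ⊓ LinearMap.ker (K.d n k).hom
      = a • (a ^ j • (⊤ : Submodule A (K.X n)) ⊓ LinearMap.ker (K.d n k).hom) := by
    rw [h1, h2, hjc, pow_succ', mul_smul]
  apply le_antisymm
  · rw [h3, Submodule.smul_le]
    intro y hy z hz
    obtain ⟨w, hw⟩ := hNH y hy
    have hw' := NH_flex hw n m k (by omega) (by omega)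
    have h4 := congrArg (fun g => g.hom z) hw'
    simp only [ModuleCat.hom_add, ModuleCat.hom_comp, ModuleCat.hom_smul, ModuleCat.hom_id,
      LinearMap.add_apply, LinearMap.comp_apply, LinearMap.smul_apply, LinearMap.id_apply] at h4
    have hz2 : (K.d n k).hom z = 0 := hz.2
    rw [hz2, map_zero, add_zero] at h4
    rw [← h4]
    exact ⟨_, apply_mem_smul_top (w.v n m (by omega)).hom hz.1, rfl⟩
  · apply le_inf
    · rw [Submodule.map_smul'', Submodule.map_top, pow_succ, mul_smul]
      exact Submodule.smul_mono le_rfl hd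
    · rintro _ ⟨x, -, rfl⟩
      exact d_mem_ker K m n k x

/-- **Serre's filtration argument.** -/
theorem euler_eq (K : Cx A) (a : Ideal A) (k : ℕ)
    (hzero : ∀ n : ℤ, (n < -(k : ℤ) ∨ 0 < n) → Subsingleton (K.X n))
    (hfin : ∀ n : ℤ, Module.Finite A (K.X n))
    (hd : ∀ m n : ℤ, m + 1 = n →
      LinearMap.range (K.d m n).hom ≤ a • (⊤ : Submodule A (K.X n)))
    (hNH : ∀ y ∈ a, NH K y)
    (hlen : ∀ (n : ℤ) (j : ℕ), colen (a ^ j • (⊤ : Submodule A (K.X n))) ≠ ⊤) :
    (∀ n : ℤ, Module.length A (K.homology n) ≠ ⊤) ∧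
    (∀ n : ℤ, (n < -(k : ℤ) ∨ 0 < n) → Module.length A (K.homology n) = 0) ∧
    ∃ N : ℕ, ∀ i, N ≤ i →
      ∑ p ∈ Finset.range (k + 1),
          (-1 : ℤ) ^ p * ((Module.length A (K.homology (-(p : ℤ)))).toNat : ℤ)
        = ∑ p ∈ Finset.range (k + 1),
            (-1 : ℤ) ^ p * (cn (a ^ (i - p) • (⊤ : Submodule A (K.X (-(p : ℤ))))) : ℤ) := by
  classical
  have hAR : ∀ n : ℤ, ∃ c : ℕ, ∀ j, c ≤ j →
      (a ^ (j + 1) • (⊤ : Submodule A (K.X n))) ⊓ LinearMap.ker (K.d n (n + 1)).hom
        = (a ^ j • (⊤ : Submodule A (K.X (n - 1)))).map (K.d (n - 1) n).hom := by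
    intro n
    haveI := hfin n
    exact inf_ker_eq_map K a (n - 1) n (n + 1) (by omega) rfl (hd _ _ (by omega)) hNH
  choose c hc using hAR
  obtain ⟨C, hC⟩ : ∃ C : ℕ, C = (Finset.Icc (-(k : ℤ)) 0).sup c := ⟨_, rfl⟩
  obtain ⟨F, hFdef⟩ : ∃ F : ℕ → (n : ℤ) → Submodule A (K.X n),
      ∀ i n, F i n = a ^ ((i : ℤ) + n).toNat • (⊤ : Submodule A (K.X n)) := ⟨_, fun _ _ => rfl⟩
  obtain ⟨β, hβdef⟩ : ∃ β : ℕ → ℤ → ℕ∞,
      ∀ i n, β i n = colen (F i n ⊔ LinearMap.ker (K.d n (n + 1)).hom) := ⟨_, fun _ _ => rfl⟩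
  have hβ : ∀ i (m n : ℤ) (_ : m + 1 = n),
      colen (F i m ⊔ LinearMap.ker (K.d m n).hom) = β i m := by
    intro i m n h
    subst h
    exact (hβdef i m).symm
  have hFne : ∀ i n, colen (F i n) ≠ ⊤ := by
    intro i n
    rw [hFdef]
    exact hlen n _
  have key : ∀ i, k + 1 + C ≤ i → ∀ n : ℤ,
      colen (F i n) = Module.length A (K.homology n) + β i (n - 1) + β i n := by
    intro i hi n
    have hF : F i n ⊓ LinearMap.ker (K.d n (n + 1)).hom
        = (F i (n - 1)).map (K.d (n - 1) n).hom := by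
      by_cases hn : -(k : ℤ) ≤ n ∧ n ≤ 0
      · have hcn : c n ≤ C := by
          rw [hC]
          exact Finset.le_sup (Finset.mem_Icc.mpr hn)
        have e1 : ((i : ℤ) + n).toNat = ((i : ℤ) + n - 1).toNat + 1 := by omega
        have e2 : ((i : ℤ) + (n - 1)).toNat = ((i : ℤ) + n - 1).toNat := by omega
        rw [hFdef, hFdef, e1, e2]
        exact hc n _ (by omega)
      · haveI : Subsingleton (K.X n) := hzero n (by omega)
        haveI : Subsingleton (Submodule A (K.X n)) :=
          (Submodule.subsingleton_iff A).mpr inferInstance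
        exact Subsingleton.elim _ _
    have h1 := colen_eq_homology_add (K.d (n - 1) n).hom (K.d n (n + 1)).hom
      (d_mem_ker K (n - 1) n (n + 1)) (F i (n - 1)) (F i n) hF
    rw [← length_homology_eq K (n - 1) n (n + 1) (by omega) rfl,
      hβ i (n - 1) n (by omega), ← hβdef] at h1
    exact h1
  have hsub0 : ∀ (n : ℤ), (n < -(k : ℤ) ∨ 0 < n) → ∀ W : Submodule A (K.X n), colen W = 0 := by
    intro n hn W
    haveI := hzero n hn
    exact colen_eq_zero_of_subsingleton W
  have hH : ∀ n : ℤ, Module.length A (K.homology n) ≠ ⊤ := by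
    intro n htop
    have h := key (k + 1 + C) le_rfl n
    apply hFne (k + 1 + C) n
    rw [h, htop, top_add, top_add]
  refine ⟨hH, ?_, k + 1 + C, ?_⟩
  · intro n hn
    have h := key (k + 1 + C) le_rfl n
    rw [hsub0 n hn] at h
    have h' := h.symm
    simp only [add_eq_zero] at h'
    exact h'.1.1
  · intro i hi
    have hfinite : ∀ n : ℤ, β i n ≠ ⊤ := by
      intro n htop
      have h := key i hi n
      apply hFne i n
      rw [h, htop, add_top]
    have hnat : ∀ n : ℤ, (cn (F i n) : ℤ) = ((Module.length A (K.homology n)).toNat : ℤ)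
        + ((β i (n - 1)).toNat : ℤ) + ((β i n).toNat : ℤ) := by
      intro n
      obtain ⟨x, hx⟩ := ENat.ne_top_iff_exists.mp (hH n)
      obtain ⟨y, hy⟩ := ENat.ne_top_iff_exists.mp (hfinite (n - 1))
      obtain ⟨z, hz⟩ := ENat.ne_top_iff_exists.mp (hfinite n)
      unfold cn
      rw [key i hi n, ← hx, ← hy, ← hz]
      have e : ((x : ℕ∞) + y + z) = ((x + y + z : ℕ) : ℕ∞) := by
        push_cast
        rfl
      rw [e, ENat.toNat_coe, ENat.toNat_coe, ENat.toNat_coe, ENat.toNat_coe]
      push_cast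
      ring
    have hbz : ∀ n : ℤ, (n < -(k : ℤ) ∨ 0 ≤ n) → β i n = 0 := by
      intro n hn
      rcases hn with hn | hn
      · rw [hβdef]
        exact hsub0 n (Or.inl hn) _
      · have : Subsingleton (K.X (n + 1)) := hzero (n + 1) (Or.inr (by omega))
        have hker : LinearMap.ker (K.d n (n + 1)).hom = ⊤ := by
          rw [eq_top_iff]
          intro x _
          exact LinearMap.mem_ker.mpr (Subsingleton.elim _ _)
        rw [hβdef, hker, sup_top_eq]
        exact colen_top'
    obtain ⟨f, hf⟩ : ∃ f : ℕ → ℤ, ∀ p, f p = (-1 : ℤ) ^ p * ((β i (-(p : ℤ))).toNat : ℤ) :=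
      ⟨_, fun _ => rfl⟩
    have hterm : ∀ p : ℕ, (-1 : ℤ) ^ p * (cn (F i (-(p : ℤ))) : ℤ)
        = (-1 : ℤ) ^ p * ((Module.length A (K.homology (-(p : ℤ)))).toNat : ℤ)
          + (f p - f (p + 1)) := by
      intro p
      rw [hnat (-(p : ℤ)), hf p, hf (p + 1)]
      have e : (-(p : ℤ)) - 1 = -((p + 1 : ℕ) : ℤ) := by
        push_cast
        ring
      rw [e, pow_succ]
      ring
    have hF_eq : ∀ p ∈ Finset.range (k + 1),
        F i (-(p : ℤ)) = a ^ (i - p) • (⊤ : Submodule A (K.X (-(p : ℤ)))) := by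
      intro p hp
      have hp' := Finset.mem_range.mp hp
      have e : ((i : ℤ) + -(p : ℤ)).toNat = i - p := by omega
      rw [hFdef, e]
    have hf0 : f 0 = 0 := by
      rw [hf 0, hbz _ (Or.inr (by simp))]
      simp
    have hfk : f (k + 1) = 0 := by
      rw [hf (k + 1), hbz _ (Or.inl (by push_cast; omega))]
      simp
    symm
    calc ∑ p ∈ Finset.range (k + 1),
          (-1 : ℤ) ^ p * (cn (a ^ (i - p) • (⊤ : Submodule A (K.X (-(p : ℤ))))) : ℤ)
        = ∑ p ∈ Finset.range (k + 1), (-1 : ℤ) ^ p * (cn (F i (-(p : ℤ))) : ℤ) :=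
          Finset.sum_congr rfl (fun p hp => by rw [hF_eq p hp])
      _ = ∑ p ∈ Finset.range (k + 1),
            ((-1 : ℤ) ^ p * ((Module.length A (K.homology (-(p : ℤ)))).toNat : ℤ)
              + (f p - f (p + 1))) := Finset.sum_congr rfl (fun p _ => hterm p)
      _ = ∑ p ∈ Finset.range (k + 1),
            (-1 : ℤ) ^ p * ((Module.length A (K.homology (-(p : ℤ)))).toNat : ℤ) := by
          rw [Finset.sum_add_distrib, Finset.sum_range_sub', hf0, hfk]
          ring

end main

end Groth.Agent.H17.KE
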