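import Groth.Agent.H17.KE.Cx
import Groth.Agent.H59.KoszBridge
import Groth.Agent.H59.KoszH1
import Groth.Agent.H59.KoszDepth
import Groth.Agent.H17.HS.Samuel
import Groth.Prelude.Def_DRing2

/-!
# Serre's theorem: the Koszul Euler characteristic is the Samuel multiplicity

`main`: for a list `l` of `k` elements of a Noetherian ring generating `a`, and a finite module `M`
with all `M / a^j M` of finite length, the Euler characteristic of `K(l) ⊗ M` (prelude model)
equals `k! · coeff_k P`, where `P` is the Samuel polynomial of `a` on `M`.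
-/

set_option autoImplicit false

universe u
open CategoryTheory MonoidalCategory CochainComplex HomologicalComplex
open Groth.Agent.H17.HS Groth.Agent.H59.Kosz

namespace Groth.Agent.H17.KE

section bridge

variable {A : Type u} [CommRing A]

theorem coneMap_id (f : A) (K : Cx A) : coneMap f (𝟙 K) = 𝟙 _ := by
  have h := coneMap_smul_id f (1 : A) K
  rwa [one_smul, one_smul] at h

/-- Cones of `f • 𝟙` on isomorphic complexes are isomorphic. -/
noncomputable def coneIso (f : A) {K L : Cx A} (e : K ≅ L) :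
    mappingCone (f • 𝟙 K) ≅ mappingCone (f • 𝟙 L) where
  hom := coneMap f e.hom
  inv := coneMap f e.inv
  hom_inv_id := by rw [← coneMap_comp, e.hom_inv_id, coneMap_id]
  inv_hom_id := by rw [← coneMap_comp, e.inv_hom_id, coneMap_id]

theorem nonempty_cone_iso_of_eq {K L : Cx A} (φ ψ : K ⟶ L) (h : φ = ψ) :
    Nonempty (mappingCone φ ≅ mappingCone ψ) := by
  subst h
  exact ⟨Iso.refl _⟩

/-- The prelude Koszul complex tensored with `M` is the iterated cone on `M`. -/
theorem bridge (M : ModuleCat.{u} A) (l : List A) :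
    Nonempty (DRing.tensorCx (Koszul.koszul A l) M ≅ kz (sgl M) l) := by
  induction l with
  | nil =>
    refine ⟨(HomologicalComplex.singleMapHomologicalComplex (tensorRight M)
      (ComplexShape.up ℤ) 0).app (ModuleCat.of A A) ≪≫
        (HomologicalComplex.single _ _ 0).mapIso (λ_ M)⟩
  | cons f l ih =>
    obtain ⟨e⟩ := ih
    have e1 := mappingCone.mapHomologicalComplexIso (f • 𝟙 (Koszul.koszul A l)) (tensorRight M)
    have h2 : ((tensorRight M).mapHomologicalComplex (ComplexShape.up ℤ)).map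
        (f • 𝟙 (Koszul.koszul A l)) = f • 𝟙 (DRing.tensorCx (Koszul.koszul A l) M) := by
      rw [Functor.map_smul, CategoryTheory.Functor.map_id]
      rfl
    obtain ⟨e2⟩ := nonempty_cone_iso_of_eq _ _ h2
    exact ⟨e1 ≪≫ e2 ≪≫ coneIso f e⟩

theorem length_homology_bridge (M : ModuleCat.{u} A) (l : List A) (n : ℤ) :
    Module.length A ((DRing.tensorCx (Koszul.koszul A l) M).homology n) =
      Module.length A ((kz (sgl M) l).homology n) := by
  obtain ⟨e⟩ := bridge M l
  exact ((HomologicalComplex.homologyFunctor _ _ n).mapIso e).toLinearEquiv.length_eq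

end bridge

section bin

/-- Binomial coefficients indexed by cohomological degree. -/
def bin (k : ℕ) (n : ℤ) : ℕ := if 0 < n then 0 else Nat.choose k (-n).toNat

theorem bin_succ (k : ℕ) (n : ℤ) : bin (k + 1) n = bin k (n + 1) + bin k n := by
  unfold bin
  by_cases h1 : 0 < n
  · have h2 : 0 < n + 1 := by omega
    simp [h1, h2]
  · by_cases h2 : n = 0
    · subst h2
      simp
    · have h3 : ¬ 0 < n + 1 := by omega
      have h4 : (-n).toNat = (-(n + 1)).toNat + 1 := by omega
      rw [if_neg h1, if_neg h3, if_neg h1, h4, Nat.choose_succ_succ]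

theorem bin_zero (n : ℤ) : bin 0 n = if n = 0 then 1 else 0 := by
  unfold bin
  by_cases h1 : 0 < n
  · have h2 : n ≠ 0 := by omega
    rw [if_pos h1, if_neg h2]
  · by_cases h2 : n = 0
    · subst h2
      simp
    · rw [if_neg h1, if_neg h2]
      have h3 : (-n).toNat = ((-n).toNat - 1) + 1 := by omega
      rw [h3, Nat.choose_zero_succ]

theorem bin_neg (k p : ℕ) : bin k (-(p : ℤ)) = k.choose p := by
  unfold bin
  rw [if_neg (by omega)]
  congr 1
  omega

end bin

section props

variable {A : Type u} [CommRing A] (M : Type u) [AddCommGroup M] [Module A M]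

/-- The differentials of the Koszul complex have image in `I K` when `l ⊆ I`. -/
theorem range_d_le (I : Ideal A) (l : List A) (hl : ∀ x ∈ l, x ∈ I) : ∀ m n : ℤ, m + 1 = n →
    LinearMap.range ((kz (sgl (ModuleCat.of A M)) l).d m n).hom
      ≤ I • (⊤ : Submodule A ((kz (sgl (ModuleCat.of A M)) l).X n)) := by
  induction l with
  | nil =>
    intro m n _
    have hd : ((kz (sgl (ModuleCat.of A M)) []).d m n) = 0 :=
      HomologicalComplex.single_obj_d _ _ _ _ _
    rw [hd]
    simp
  | cons f l ih =>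
    have ih' := ih (fun x hx => hl x (List.mem_cons_of_mem _ hx))
    have hf : f ∈ I := hl f List.mem_cons_self
    intro m n hmn
    show LinearMap.range ((mappingCone (f • 𝟙 (kz (sgl (ModuleCat.of A M)) l))).d m n).hom ≤
      I • (⊤ : Submodule A ((mappingCone (f • 𝟙 (kz (sgl (ModuleCat.of A M)) l))).X n))
    revert ih'
    generalize kz (sgl (ModuleCat.of A M)) l = K
    intro ih'
    rintro _ ⟨z, rfl⟩
    have hdec := decomp' f K (n + 1) n rfl (((mappingCone (f • 𝟙 K)).d m n).hom z)
    rw [← hdec]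
    refine Submodule.add_mem _ ?_ ?_
    · refine apply_mem_smul_top ((mappingCone.inl (f • 𝟙 K)).v (n + 1) n (by omega)).hom ?_
      have h1 := d_fst_apply f K m n (n + 1) hmn rfl z
      rw [show (mappingCone.fst (f • 𝟙 K)).1.v n (n + 1) rfl
        (((mappingCone (f • 𝟙 K)).d m n).hom z) = _ from h1]
      exact Submodule.neg_mem _ (ih' n (n + 1) rfl ⟨_, rfl⟩)
    · refine apply_mem_smul_top ((mappingCone.inr (f • 𝟙 K)).f n).hom ?_
      have h2 := d_snd_apply f K m n hmn z
      rw [show (mappingCone.snd (f • 𝟙 K)).v n n (add_zero n)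
        (((mappingCone (f • 𝟙 K)).d m n).hom z) = _ from h2]
      exact Submodule.add_mem _ (Submodule.smul_mem_smul hf Submodule.mem_top)
        (ih' m n hmn ⟨_, rfl⟩)

/-- `ℓ(K^n / b K^n) = C(k, -n) ℓ(M / bM)`. -/
theorem qlen_X (b : Ideal A) (l : List A) : ∀ n : ℤ,
    qlen b ((kz (sgl (ModuleCat.of A M)) l).X n) = (bin l.length n : ℕ∞) * qlen b M := by
  induction l with
  | nil =>
    intro n
    rw [List.length_nil, bin_zero]
    by_cases hn : n = 0
    · subst hn
      rw [if_pos rfl, Nat.cast_one, one_mul]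
      exact qlen_congr b (HomologicalComplex.singleObjXSelf (ComplexShape.up ℤ) 0
        (ModuleCat.of A M)).toLinearEquiv
    · rw [if_neg hn, Nat.cast_zero, zero_mul]
      haveI : Subsingleton ((kz (sgl (ModuleCat.of A M)) []).X n) :=
        ModuleCat.subsingleton_of_isZero
          (HomologicalComplex.isZero_single_obj_X (ComplexShape.up ℤ) 0 _ n hn)
      exact qlen_of_subsingleton b _
  | cons f l ih =>
    intro n
    have e := coneEquiv f (kz (sgl (ModuleCat.of A M)) l) (n + 1) n rfl
    show qlen b ((mappingCone (f • 𝟙 (kz (sgl (ModuleCat.of A M)) l))).X n) = _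
    rw [qlen_congr b e, qlen_prod, ih (n + 1), ih n, List.length_cons, bin_succ]
    push_cast
    ring

theorem finite_X [Module.Finite A M] (l : List A) : ∀ n : ℤ,
    Module.Finite A ((kz (sgl (ModuleCat.of A M)) l).X n) := by
  induction l with
  | nil =>
    intro n
    by_cases hn : n = 0
    · subst hn
      exact Module.Finite.equiv (HomologicalComplex.singleObjXSelf (ComplexShape.up ℤ) 0
        (ModuleCat.of A M)).toLinearEquiv.symm
    · haveI : Subsingleton ((kz (sgl (ModuleCat.of A M)) []).X n) :=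
        ModuleCat.subsingleton_of_isZero
          (HomologicalComplex.isZero_single_obj_X (ComplexShape.up ℤ) 0 _ n hn)
      infer_instance
  | cons f l ih =>
    intro n
    haveI := ih (n + 1)
    haveI := ih n
    exact Module.Finite.equiv (coneEquiv f (kz (sgl (ModuleCat.of A M)) l) (n + 1) n rfl).symm

end props

section main

open Polynomial

variable {A : Type u} [CommRing A] [IsNoetherianRing A]

/-- **Serre's theorem** `χ(l; M) = k! · coeff_k(Samuel polynomial)`. -/
theorem main (l : List A) (M : Type u) [AddCommGroup M] [Module A M] [Module.Finite A M]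
    (hfin : ∀ j, colen ((Ideal.span {x | x ∈ l}) ^ j • (⊤ : Submodule A M)) ≠ ⊤)
    (P : ℚ[X]) (hP : HasSamuelPoly (Ideal.span {x | x ∈ l}) M P)
    (hdeg : P.natDegree ≤ l.length) :
    (((∑ᶠ i : ℤ, ((i.negOnePow : ℤˣ) : ℤ) * ((Module.length A ((DRing.tensorCx
      (Koszul.koszul A l) (ModuleCat.of A M)).homology i)).toNat : ℤ)) : ℤ) : ℚ)
      = (l.length.factorial : ℚ) * P.coeff l.length := by
  classical
  obtain ⟨a, ha⟩ : ∃ a : Ideal A, a = Ideal.span {x | x ∈ l} := ⟨_, rfl⟩
  obtain ⟨k, hk⟩ : ∃ k : ℕ, k = l.length := ⟨_, rfl⟩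
  rw [← ha] at hfin hP
  rw [← hk] at hdeg ⊢
  obtain ⟨Kl, hKl⟩ : ∃ Kl : Cx A, Kl = kz (sgl (ModuleCat.of A M)) l := ⟨_, rfl⟩
  have hlenEq : ∀ n : ℤ, Module.length A ((DRing.tensorCx (Koszul.koszul A l)
      (ModuleCat.of A M)).homology n) = Module.length A (Kl.homology n) := by
    intro n
    rw [hKl]
    exact length_homology_bridge _ l n
  have hzero : ∀ n : ℤ, (n < -(k : ℤ) ∨ 0 < n) → Subsingleton (Kl.X n) := by
    intro n hn
    rw [hKl]
    rcases hn with hn | hn
    · exact ModuleCat.subsingleton_of_isZero (isZero_kz_neg _ l n (by rw [← hk]; exact hn))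
    · exact ModuleCat.subsingleton_of_isZero (isZero_kz_pos _ l n hn)
  have hfinX : ∀ n : ℤ, Module.Finite A (Kl.X n) := by
    intro n
    rw [hKl]
    exact finite_X M l n
  have hd : ∀ m n : ℤ, m + 1 = n →
      LinearMap.range (Kl.d m n).hom ≤ a • (⊤ : Submodule A (Kl.X n)) := by
    intro m n hmn
    rw [hKl, ha]
    exact range_d_le M _ l (fun x hx => Ideal.subset_span hx) m n hmn
  have hNH : ∀ y ∈ a, NH Kl y := by
    intro y hy
    rw [hKl]
    rw [ha] at hy
    exact span_le_nhIdeal _ l hy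
  have hq : ∀ (j : ℕ) (n : ℤ), qlen (a ^ j) (Kl.X n) = (bin k n : ℕ∞) * qlen (a ^ j) M := by
    intro j n
    rw [hKl, hk]
    exact qlen_X M (a ^ j) l n
  have hlen : ∀ (n : ℤ) (j : ℕ), colen (a ^ j • (⊤ : Submodule A (Kl.X n))) ≠ ⊤ := by
    intro n j
    obtain ⟨q, hq'⟩ := ENat.ne_top_iff_exists.mp (hfin j)
    have h1 := hq j n
    have h2 : qlen (a ^ j) M = q := hq'.symm
    rw [h2] at h1
    show qlen (a ^ j) (Kl.X n) ≠ ⊤
    rw [h1]
    exact_mod_cast ENat.coe_ne_top (bin k n * q)
  have hcn : ∀ p j : ℕ, cn (a ^ j • (⊤ : Submodule A (Kl.X (-(p : ℤ)))))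
      = k.choose p * samuel a M j := by
    intro p j
    obtain ⟨q, hq'⟩ := ENat.ne_top_iff_exists.mp (hfin j)
    have h1 := hq j (-(p : ℤ))
    have h2 : qlen (a ^ j) M = q := hq'.symm
    rw [h2, bin_neg] at h1
    have h3 : samuel a M j = q := by
      unfold samuel cn
      rw [← hq']
      exact ENat.toNat_coe q
    have h4 : colen (a ^ j • (⊤ : Submodule A (Kl.X (-(p : ℤ)))))
        = ((k.choose p * q : ℕ) : ℕ∞) := by
      refine Eq.trans h1 ?_
      push_cast
      rfl
    unfold cn
    rw [h4, ENat.toNat_coe, h3]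
  obtain ⟨hH, hz, N, hN⟩ := euler_eq Kl a k hzero hfinX hd hNH hlen
  obtain ⟨K₀, hK₀⟩ := hP
  obtain ⟨i, hi1, hi2⟩ : ∃ i : ℕ, N ≤ i ∧ K₀ + k ≤ i :=
    ⟨max N (K₀ + k), le_max_left _ _, le_max_right _ _⟩
  have hsum := hN i hi1
  have hfun : (fun n : ℤ => ((n.negOnePow : ℤˣ) : ℤ) * ((Module.length A ((DRing.tensorCx
      (Koszul.koszul A l) (ModuleCat.of A M)).homology n)).toNat : ℤ)) =
      fun n : ℤ => ((n.negOnePow : ℤˣ) : ℤ) * ((Module.length A (Kl.homology n)).toNat : ℤ) :=
    funext (fun n => by rw [hlenEq n])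
  rw [hfun, finsum_eq_sum_range _ k (fun n hn => by rw [hz n hn]; simp)]
  have hsign : ∀ p : ℕ, (((-(p : ℤ)).negOnePow : ℤˣ) : ℤ) = (-1 : ℤ) ^ p := by
    intro p
    rw [Int.negOnePow_neg, Int.coe_negOnePow_natCast]
  simp only [hsign]
  rw [hsum, ← sum_choose_eval P k hdeg i (by omega)]
  push_cast
  refine Finset.sum_congr rfl (fun p hp => ?_)
  have hp' := Finset.mem_range.mp hp
  rw [hcn p (i - p), ← hK₀ (i - p) (by omega)]
  push_cast
  ring

end main

end Groth.Agent.H17.KE
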