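import Groth.Agent.H17.KE.ConeLA
import Groth.Agent.H17.KE.Apply

/-!
# `χ(xy, l; M) = χ(x, l; M) + χ(y, l; M)` for Koszul Euler characteristics
-/

set_option autoImplicit false

universe u
open CategoryTheory CochainComplex HomologicalComplex
open Groth.Agent.H17.HS Groth.Agent.H59.Kosz
open scoped Pointwise

namespace Groth.Agent.H17.KE

section cone

variable {A : Type u} [CommRing A]

/-- The homology of the cone of `z • 𝟙 K` in terms of the homology of `K`. -/
theorem length_homology_cone (K : Cx A) (z : A) (i j k l : ℤ) (hij : i + 1 = j) (hjk : j + 1 = k)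
    (hkl : k + 1 = l) :
    Module.length A ((mappingCone (z • 𝟙 K)).homology j) =
      Module.length A (Hm (K.d i j).hom (K.d j k).hom (d_mem_ker K i j k) ⧸
        z • (⊤ : Submodule A (Hm (K.d i j).hom (K.d j k).hom (d_mem_ker K i j k)))) +
      Module.length A (LinearMap.ker (LinearMap.lsmul A
        (Hm (K.d j k).hom (K.d k l).hom (d_mem_ker K j k l)) z)) := by
  rw [length_homology_eq (mappingCone (z • 𝟙 K)) i j k hij hjk,
    ← length_cone_homology (K.d i j).hom (K.d j k).hom (K.d k l).hom (d_mem_ker K i j k)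
      (d_mem_ker K j k l) z]
  exact length_Hm_congr _ _ _ _ _ _ (coneEquiv z K j i hij) (coneEquiv z K k j hjk)
    (coneEquiv z K l k hkl)
    (fun y => Prod.ext (d_fst_apply z K i j k hij hjk y) (d_snd_apply z K i j hij y))
    (fun y => Prod.ext (d_fst_apply z K j k l hjk hkl y) (d_snd_apply z K j k hjk y))

/-- `ℓ(Hⁿ(K)/z Hⁿ(K))`. -/
noncomputable def Qz (K : Cx A) (z : A) (n : ℤ) : ℕ∞ :=
  Module.length A (Hm (K.d (n - 1) n).hom (K.d n (n + 1)).hom (d_mem_ker K (n - 1) n (n + 1)) ⧸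
    z • (⊤ : Submodule A
      (Hm (K.d (n - 1) n).hom (K.d n (n + 1)).hom (d_mem_ker K (n - 1) n (n + 1)))))

/-- `ℓ(Hⁿ(K)[z])`. -/
noncomputable def Tz (K : Cx A) (z : A) (n : ℤ) : ℕ∞ :=
  Module.length A (LinearMap.ker (LinearMap.lsmul A
    (Hm (K.d (n - 1) n).hom (K.d n (n + 1)).hom (d_mem_ker K (n - 1) n (n + 1))) z))

theorem Qz_flex (K : Cx A) (z : A) (i j k : ℤ) (hij : i + 1 = j) (hjk : j + 1 = k) :
    Module.length A (Hm (K.d i j).hom (K.d j k).hom (d_mem_ker K i j k) ⧸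
      z • (⊤ : Submodule A (Hm (K.d i j).hom (K.d j k).hom (d_mem_ker K i j k)))) = Qz K z j := by
  obtain rfl : i = j - 1 := by omega
  obtain rfl : k = j + 1 := by omega
  rfl

theorem Tz_flex (K : Cx A) (z : A) (i j k : ℤ) (hij : i + 1 = j) (hjk : j + 1 = k) :
    Module.length A (LinearMap.ker (LinearMap.lsmul A
      (Hm (K.d i j).hom (K.d j k).hom (d_mem_ker K i j k)) z)) = Tz K z j := by
  obtain rfl : i = j - 1 := by omega
  obtain rfl : k = j + 1 := by omega
  rfl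

theorem length_homology_cone' (K : Cx A) (z : A) (n m : ℤ) (h : n + 1 = m) :
    Module.length A ((mappingCone (z • 𝟙 K)).homology n) = Qz K z n + Tz K z m := by
  rw [length_homology_cone K z (n - 1) n m (m + 1) (by omega) h rfl,
    Qz_flex K z (n - 1) n m (by omega) h, Tz_flex K z n m (m + 1) h rfl]

theorem length_Hm_eq_zero {X' X X'' : Type*} [AddCommGroup X'] [Module A X'] [AddCommGroup X]
    [Module A X] [AddCommGroup X''] [Module A X''] [Subsingleton X] (d' : X' →ₗ[A] X)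
    (d : X →ₗ[A] X'') (h : ∀ x, d' x ∈ LinearMap.ker d) : Module.length A (Hm d' d h) = 0 := by
  refine nonpos_iff_eq_zero.mp ?_
  refine (Module.length_le_of_surjective (Submodule.mkQ _) (Submodule.mkQ_surjective _)).trans ?_
  refine (Module.length_le_of_injective (LinearMap.ker d).subtype
    (Submodule.subtype_injective _)).trans ?_
  exact le_of_eq Module.length_eq_zero

theorem Qz_eq_zero (K : Cx A) (z : A) (n : ℤ) [Subsingleton (K.X n)] : Qz K z n = 0 := by
  unfold Qz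
  refine nonpos_iff_eq_zero.mp ?_
  refine (Module.length_le_of_surjective (Submodule.mkQ _) (Submodule.mkQ_surjective _)).trans ?_
  exact le_of_eq (length_Hm_eq_zero _ _ _)

theorem Tz_eq_zero (K : Cx A) (z : A) (n : ℤ) [Subsingleton (K.X n)] : Tz K z n = 0 := by
  unfold Tz
  refine nonpos_iff_eq_zero.mp ?_
  refine (Module.length_le_of_injective (Submodule.subtype _)
    (Submodule.subtype_injective _)).trans ?_
  exact le_of_eq (length_Hm_eq_zero _ _ _)

theorem Tz_mul_le (K : Cx A) (x y : A) (n : ℤ) : Tz K (x * y) n ≤ Tz K y n + Tz K x n := by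
  unfold Tz
  obtain ⟨N, hN⟩ : ∃ N : Type u, N = Hm (K.d (n - 1) n).hom (K.d n (n + 1)).hom
    (d_mem_ker K (n - 1) n (n + 1)) := ⟨_, rfl⟩
  -- the map `y • : N[xy] → N[x]`
  have hb : ∀ m ∈ LinearMap.ker (LinearMap.lsmul A (Hm (K.d (n - 1) n).hom (K.d n (n + 1)).hom
      (d_mem_ker K (n - 1) n (n + 1))) (x * y)),
      LinearMap.lsmul A _ y m ∈ LinearMap.ker (LinearMap.lsmul A (Hm (K.d (n - 1) n).hom
        (K.d n (n + 1)).hom (d_mem_ker K (n - 1) n (n + 1))) x) := by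
    intro m hm
    rw [LinearMap.mem_ker, LinearMap.lsmul_apply] at hm ⊢
    rw [LinearMap.lsmul_apply, ← mul_smul]
    exact hm
  have h1 := Groth.Agent.H17.Chi.length_eq_ker_add_range ((LinearMap.lsmul A _ y).restrict hb)
  rw [h1]
  refine add_le_add ?_ ?_
  · -- the kernel injects into N[y]
    have hk : ∀ m : LinearMap.ker ((LinearMap.lsmul A _ y).restrict hb),
        ((m : LinearMap.ker (LinearMap.lsmul A (Hm (K.d (n - 1) n).hom (K.d n (n + 1)).hom
          (d_mem_ker K (n - 1) n (n + 1))) (x * y))) : Hm (K.d (n - 1) n).hom (K.d n (n + 1)).hom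
          (d_mem_ker K (n - 1) n (n + 1))) ∈ LinearMap.ker (LinearMap.lsmul A _ y) := by
      intro m
      have hm := m.2
      rw [LinearMap.mem_ker] at hm
      exact congrArg Subtype.val hm
    exact Module.length_le_of_injective
      (((Submodule.subtype _) ∘ₗ (Submodule.subtype _)).codRestrict _ hk)
      (fun a b hab => by
        have h := congrArg Subtype.val hab
        exact Subtype.ext (Subtype.ext h))
  · exact Module.length_le_of_injective (Submodule.subtype _) (Submodule.subtype_injective _)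

theorem index_Qz_Tz (K : Cx A) (x y : A) (n : ℤ) :
    Tz K y n + Tz K x n + Qz K (x * y) n = Tz K (x * y) n + Qz K y n + Qz K x n :=
  index_mul _ x y

/-- The Euler characteristic of the cone in terms of the indices of `z` on the homology of `K`. -/
theorem chi_cone_eq (K : Cx A) (k : ℕ)
    (hzero : ∀ n : ℤ, (n < -(k : ℤ) ∨ 0 < n) → Subsingleton (K.X n)) (z : A)
    (hQ : ∀ n, Qz K z n ≠ ⊤) (hT : ∀ n, Tz K z n ≠ ⊤) :
    ∑ᶠ n : ℤ, ((n.negOnePow : ℤˣ) : ℤ) *
        ((Module.length A ((mappingCone (z • 𝟙 K)).homology n)).toNat : ℤ)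
      = ∑ p ∈ Finset.range (k + 1), (-1 : ℤ) ^ p *
          (((Qz K z (-(p : ℤ))).toNat : ℤ) - ((Tz K z (-(p : ℤ))).toNat : ℤ)) := by
  have hlen : ∀ n : ℤ, ((Module.length A ((mappingCone (z • 𝟙 K)).homology n)).toNat : ℤ) =
      ((Qz K z n).toNat : ℤ) + ((Tz K z (n + 1)).toNat : ℤ) := by
    intro n
    rw [length_homology_cone' K z n (n + 1) rfl]
    obtain ⟨a, ha⟩ := ENat.ne_top_iff_exists.mp (hQ n)
    obtain ⟨b, hb⟩ := ENat.ne_top_iff_exists.mp (hT (n + 1))
    rw [← ha, ← hb]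
    have e : ((a : ℕ∞) + b) = ((a + b : ℕ) : ℕ∞) := by push_cast; rfl
    rw [e, ENat.toNat_natCast, ENat.toNat_natCast, ENat.toNat_natCast]
    push_cast
    rfl
  have hQ0 : ∀ n : ℤ, (n < -(k : ℤ) ∨ 0 < n) → Qz K z n = 0 := by
    intro n hn
    haveI := hzero n hn
    exact Qz_eq_zero K z n
  have hT0 : ∀ n : ℤ, (n < -(k : ℤ) ∨ 0 < n) → Tz K z n = 0 := by
    intro n hn
    haveI := hzero n hn
    exact Tz_eq_zero K z n
  rw [finsum_eq_sum_range _ (k + 1) (fun n hn => by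
    rw [hlen n, hQ0 n (by push_cast at hn; omega), hT0 (n + 1) (by push_cast at hn; omega)]
    simp)]
  have hsign : ∀ p : ℕ, (((-(p : ℤ)).negOnePow : ℤˣ) : ℤ) = (-1 : ℤ) ^ p := by
    intro p
    rw [Int.negOnePow_neg, Int.coe_negOnePow_natCast]
  simp only [hsign, hlen, mul_add, Finset.sum_add_distrib]
  rw [Finset.sum_range_succ, Finset.sum_range_succ' (fun p : ℕ => (-1 : ℤ) ^ p *
    ((Tz K z (-(p : ℤ) + 1)).toNat : ℤ))]
  have h1 : Qz K z (-((k + 1 : ℕ) : ℤ)) = 0 := hQ0 _ (Or.inl (by push_cast; omega))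
  have h2 : Tz K z (-((0 : ℕ) : ℤ) + 1) = 0 := hT0 _ (Or.inr (by simp))
  rw [h1, h2]
  have h3 : ∀ p : ℕ, (-((p + 1 : ℕ) : ℤ) + 1) = -(p : ℤ) := by
    intro p
    push_cast
    ring
  simp only [h3, ENat.toNat_zero, Nat.cast_zero, mul_zero, add_zero, mul_sub, Finset.sum_sub_distrib]
  rw [sub_eq_add_neg, ← Finset.sum_neg_distrib]
  congr 1
  refine Finset.sum_congr rfl (fun p _ => ?_)
  rw [pow_succ]
  ring

end cone

section main

variable {A : Type u} [CommRing A] [IsNoetherianRing A]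

/-- Finiteness and vanishing of Koszul homology. -/
theorem kz_package (l : List A) (M : Type u) [AddCommGroup M] [Module A M] [Module.Finite A M]
    (hfin : ∀ j, colen ((Ideal.span {x | x ∈ l}) ^ j • (⊤ : Submodule A M)) ≠ ⊤) :
    (∀ n : ℤ, Module.length A ((kz (sgl (ModuleCat.of A M)) l).homology n) ≠ ⊤) ∧
    (∀ n : ℤ, (n < -(l.length : ℤ) ∨ 0 < n) →
      Module.length A ((kz (sgl (ModuleCat.of A M)) l).homology n) = 0) := by
  obtain ⟨a, ha⟩ : ∃ a : Ideal A, a = Ideal.span {x | x ∈ l} := ⟨_, rfl⟩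
  obtain ⟨k, hk⟩ : ∃ k : ℕ, k = l.length := ⟨_, rfl⟩
  rw [← ha] at hfin
  rw [← hk]
  obtain ⟨Kl, hKl⟩ : ∃ Kl : Cx A, Kl = kz (sgl (ModuleCat.of A M)) l := ⟨_, rfl⟩
  rw [← hKl]
  have hzero : ∀ n : ℤ, (n < -(k : ℤ) ∨ 0 < n) → Subsingleton (Kl.X n) := by
    intro n hn
    rw [hKl]
    rcases hn with hn | hn
    · exact ModuleCat.subsingleton_of_isZero (isZero_kz_neg _ l n (by rw [← hk]; exact hn))
    · exact ModuleCat.subsingleton_of_isZero (isZero_kz_pos _ l n hn)
  have hfinX : ∀ n : ℤ, Module.Finite A (Kl.X n) := by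
    intro n
    rw [hKl]
    exact finite_X M l n
  have hd : ∀ m n : ℤ, m + 1 = n →
      LinearMap.range (Kl.d m n).hom ≤ a • (⊤ : Submodule A (Kl.X n)) := by
    intro m n hmn
    rw [hKl, ha]
    exact range_d_le M _ l (fun x hx => Ideal.subset_span hx) m n hmn
  have hNH : ∀ y ∈ a, NH Kl y := by
    intro y hy
    rw [hKl]
    rw [ha] at hy
    exact span_le_nhIdeal _ l hy
  have hq : ∀ (j : ℕ) (n : ℤ), qlen (a ^ j) (Kl.X n) = (bin k n : ℕ∞) * qlen (a ^ j) M := by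
    intro j n
    rw [hKl, hk]
    exact qlen_X M (a ^ j) l n
  have hlen : ∀ (n : ℤ) (j : ℕ), colen (a ^ j • (⊤ : Submodule A (Kl.X n))) ≠ ⊤ := by
    intro n j
    obtain ⟨q, hq'⟩ := ENat.ne_top_iff_exists.mp (hfin j)
    have h1 := hq j n
    have h2 : qlen (a ^ j) M = q := hq'.symm
    rw [h2] at h1
    show qlen (a ^ j) (Kl.X n) ≠ ⊤
    rw [h1]
    exact_mod_cast ENat.natCast_ne_top (bin k n * q)
  obtain ⟨hH, hz, -⟩ := euler_eq Kl a k hzero hfinX hd hNH hlen
  exact ⟨hH, hz⟩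

theorem isZero_X_kz (l : List A) (M : Type u) [AddCommGroup M] [Module A M] (n : ℤ)
    (hn : n < -(l.length : ℤ) ∨ 0 < n) : Subsingleton ((kz (sgl (ModuleCat.of A M)) l).X n) := by
  rcases hn with hn | hn
  · exact ModuleCat.subsingleton_of_isZero (isZero_kz_neg _ l n hn)
  · exact ModuleCat.subsingleton_of_isZero (isZero_kz_pos _ l n hn)

/-- `χ(xy, l; M) = χ(x, l; M) + χ(y, l; M)`. -/
theorem chi_mul_head (x y : A) (l : List A) (M : Type u) [AddCommGroup M] [Module A M]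
    [Module.Finite A M]
    (hx : ∀ j, colen ((Ideal.span {a | a ∈ x :: l}) ^ j • (⊤ : Submodule A M)) ≠ ⊤)
    (hy : ∀ j, colen ((Ideal.span {a | a ∈ y :: l}) ^ j • (⊤ : Submodule A M)) ≠ ⊤) :
    chi ((x * y) :: l) M = chi (x :: l) M + chi (y :: l) M := by
  obtain ⟨K, hK⟩ : ∃ K : Cx A, K = kz (sgl (ModuleCat.of A M)) l := ⟨_, rfl⟩
  have hchi : ∀ z : A, chi (z :: l) M = ∑ᶠ n : ℤ, ((n.negOnePow : ℤˣ) : ℤ) *
      ((Module.length A ((mappingCone (z • 𝟙 K)).homology n)).toNat : ℤ) := by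
    intro z
    unfold chi
    refine finsum_congr (fun n => ?_)
    rw [length_homology_bridge (ModuleCat.of A M) (z :: l) n, hK]
    rfl
  have hzero : ∀ n : ℤ, (n < -(l.length : ℤ) ∨ 0 < n) → Subsingleton (K.X n) := by
    intro n hn
    rw [hK]
    exact isZero_X_kz l M n hn
  have hfinite : ∀ z : A, (∀ n : ℤ, Module.length A ((mappingCone (z • 𝟙 K)).homology n) ≠ ⊤) →
      (∀ n, Qz K z n ≠ ⊤) ∧ (∀ n, Tz K z n ≠ ⊤) := by
    intro z hz
    constructor
    · intro n htop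
      apply hz n
      rw [length_homology_cone' K z n (n + 1) rfl, htop, top_add]
    · intro n htop
      apply hz (n - 1)
      rw [length_homology_cone' K z (n - 1) n (by omega), htop, add_top]
  have hxK : ∀ n : ℤ, Module.length A ((mappingCone (x • 𝟙 K)).homology n) ≠ ⊤ := by
    rw [hK]
    exact (kz_package (x :: l) M hx).1
  have hyK : ∀ n : ℤ, Module.length A ((mappingCone (y • 𝟙 K)).homology n) ≠ ⊤ := by
    rw [hK]
    exact (kz_package (y :: l) M hy).1
  obtain ⟨hQx, hTx⟩ := hfinite x hxK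
  obtain ⟨hQy, hTy⟩ := hfinite y hyK
  have hTxy : ∀ n, Tz K (x * y) n ≠ ⊤ := by
    intro n htop
    have h := Tz_mul_le K x y n
    rw [htop, top_le_iff] at h
    exact WithTop.add_ne_top.mpr ⟨hTy n, hTx n⟩ h
  have hQxy : ∀ n, Qz K (x * y) n ≠ ⊤ := by
    intro n htop
    have h := index_Qz_Tz K x y n
    rw [htop, add_top] at h
    exact WithTop.add_ne_top.mpr ⟨WithTop.add_ne_top.mpr ⟨hTxy n, hQy n⟩, hQx n⟩ h.symm
  rw [hchi, hchi, hchi, chi_cone_eq K l.length hzero (x * y) hQxy hTxy,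
    chi_cone_eq K l.length hzero x hQx hTx, chi_cone_eq K l.length hzero y hQy hTy,
    ← Finset.sum_add_distrib]
  refine Finset.sum_congr rfl (fun p _ => ?_)
  rw [← mul_add]
  congr 1
  have h := index_Qz_Tz K x y (-(p : ℤ))
  obtain ⟨a1, ha1⟩ := ENat.ne_top_iff_exists.mp (hTy (-(p : ℤ)))
  obtain ⟨a2, ha2⟩ := ENat.ne_top_iff_exists.mp (hTx (-(p : ℤ)))
  obtain ⟨a3, ha3⟩ := ENat.ne_top_iff_exists.mp (hQxy (-(p : ℤ)))
  obtain ⟨a4, ha4⟩ := ENat.ne_top_iff_exists.mp (hTxy (-(p : ℤ)))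
  obtain ⟨a5, ha5⟩ := ENat.ne_top_iff_exists.mp (hQy (-(p : ℤ)))
  obtain ⟨a6, ha6⟩ := ENat.ne_top_iff_exists.mp (hQx (-(p : ℤ)))
  rw [← ha1, ← ha2, ← ha3, ← ha4, ← ha5, ← ha6] at h ⊢
  have h' : a1 + a2 + a3 = a4 + a5 + a6 := by exact_mod_cast h
  simp only [ENat.toNat_natCast]
  omega

end main

end Groth.Agent.H17.KE
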